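/-
A coprime group normalised by an element of order three with one Jordan block of size three in
characteristic three: scalars and the lines of a four-group.
-/
import Mathlib

set_option autoImplicit false

namespace Cfsg.Agent.JordanThree

local notation "F₃" => ZMod 3

instance : Fact (Nat.Prime 3) := ⟨Nat.prime_three⟩

variable {H V : Type*} [Group H] [AddCommGroup V] [Module (ZMod 3) V]

/-- `σ b - 1`. -/
def dd (σ : Representation (ZMod 3) H V) (b : H) : V →ₗ[F₃] V := σ b - LinearMap.id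

theorem dd_apply (σ : Representation (ZMod 3) H V) (b : H) (v : V) : dd σ b v = σ b v - v := rfl

/-- `H = R⟨b⟩`, irreducible, with `b` of order three moving a space of dimension at most two. -/
structure Setting (σ : Representation (ZMod 3) H V) (R : Subgroup H) (b : H) : Prop where
  faith : Function.Injective σ
  irred : ∀ U : Submodule (ZMod 3) V, (∀ h, ∀ v ∈ U, σ h v ∈ U) → U = ⊥ ∨ U = ⊤
  norm : R.Normal
  solv : Group.IsSolvable R
  cop : ¬ 3 ∣ Nat.card R
  b3 : b ^ 3 = 1
  gen : R ⊔ Subgroup.zpowers b = ⊤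
  comm : ⁅R, Subgroup.zpowers b⁆ = R
  dimle : Module.finrank F₃ (LinearMap.range (dd σ b)) ≤ 2
  cubic : ∃ v, dd σ b (dd σ b v) ≠ 0

/-- An involution whose three conjugates under `b` form a four-group. -/
structure Four (b w : H) : Prop where
  sq : w * w = 1
  ne : b * w * b⁻¹ ≠ w
  rel : w * (b * w * b⁻¹) = b * (b * w * b⁻¹) * b⁻¹
  com : w * (b * w * b⁻¹) = b * w * b⁻¹ * w

variable {σ : Representation (ZMod 3) H V} {R : Subgroup H} {b : H}

theorem sigma_mul (x y : H) (v : V) : σ (x * y) v = σ x (σ y v) := by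
  rw [map_mul]; rfl

theorem sigma_inv_self (x : H) (v : V) : σ x⁻¹ (σ x v) = v := by
  rw [← sigma_mul, inv_mul_cancel, map_one]; rfl

theorem sigma_self_inv (x : H) (v : V) : σ x (σ x⁻¹ v) = v := by
  rw [← sigma_mul, mul_inv_cancel, map_one]; rfl

theorem neg_ne_self {v : V} (hv : v ≠ 0) : -v ≠ v := fun h => by
  apply hv
  have h2 : (2 : F₃) • v = 0 := by rw [two_smul]; nth_rewrite 1 [← h]; exact neg_add_cancel v
  exact (smul_eq_zero.1 h2).resolve_left (by decide)

theorem eq_zero_of_eq_neg {v : V} (h : v = -v) : v = 0 := by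
  by_contra hv
  exact neg_ne_self hv h.symm

theorem three_smul_zero (v : V) : v + v + v = 0 := by
  have h : (3 : F₃) • v = 0 := by rw [show (3 : F₃) = 0 from rfl, zero_smul]
  rw [show (3 : F₃) = 1 + 1 + 1 by decide, add_smul, add_smul, one_smul] at h
  exact h

namespace Setting

variable (S : Setting σ R b)
include S

theorem dd_cube (v : V) : dd σ b (dd σ b (dd σ b v)) = 0 := by
  have h3 : σ b (σ b (σ b v)) = v := by
    rw [← sigma_mul, ← sigma_mul, show b * b * b = b ^ 3 by simp [pow_succ], S.b3, map_one]; rfl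
  simp only [dd_apply, map_sub]
  rw [h3]
  have h := three_smul_zero (σ b v)
  have h' := three_smul_zero (σ b (σ b v))
  calc v - σ b (σ b v) - (σ b (σ b v) - σ b v) - (σ b (σ b v) - σ b v - (σ b v - v))
      = (σ b v + σ b v + σ b v) - (σ b (σ b v) + σ b (σ b v) + σ b (σ b v)) := by abel
    _ = 0 := by rw [h, h', sub_zero]

theorem nontrivial : Nontrivial V :=
  let ⟨v, hv⟩ := S.cubic
  ⟨⟨_, 0, hv⟩⟩

/-- An element commuting with all of `H` acts as `1` or as `-1`. -/
theorem scalar_of_central [Finite V] {a : H} (ha : ∀ h, h * a = a * h) :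
    (∀ v, σ a v = v) ∨ ∀ v, σ a v = -v := by
  obtain ⟨v, hv⟩ := S.cubic
  set e := dd σ b (dd σ b v) with he
  -- the second image is a line
  set P := LinearMap.range (dd σ b) with hP
  set P2 := P.map (dd σ b) with hP2
  have heP2 : e ∈ P2 := ⟨dd σ b v, ⟨v, rfl⟩, rfl⟩
  have hP2P : P2 ≤ P := by rintro _ ⟨x, -, rfl⟩; exact ⟨x, rfl⟩
  have hlt : Module.finrank F₃ P2 < Module.finrank F₃ P := by
    refine Submodule.finrank_lt_finrank_of_lt (lt_of_le_of_ne hP2P fun hEq => hv ?_)
    have key : ∀ y ∈ P, dd σ b y = 0 := by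
      intro y hy
      rw [← hEq] at hy
      obtain ⟨x, hx, rfl⟩ := hy
      obtain ⟨z, rfl⟩ := hx
      exact S.dd_cube z
    exact key _ ⟨v, rfl⟩
  have hle : Module.finrank F₃ P2 ≤ 1 := by
    have := S.dimle
    rw [← hP] at this
    omega
  have hline : ∀ y ∈ P2, ∃ c : F₃, c • e = y := by
    obtain ⟨u, hu⟩ := finrank_le_one_iff.1 hle
    obtain ⟨c0, hc0⟩ := hu ⟨e, heP2⟩
    intro y hy
    obtain ⟨c, hc⟩ := hu ⟨y, hy⟩
    have hc0' : c0 • (u : V) = e := congrArg Subtype.val hc0
    have hc' : c • (u : V) = y := congrArg Subtype.val hc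
    have hc0ne : c0 ≠ 0 := fun h => hv (by rw [← hc0', h, zero_smul])
    exact ⟨c * c0⁻¹, by rw [← hc0', smul_smul, inv_mul_cancel_right₀ hc0ne, hc']⟩
  have hdd : ∀ x, dd σ b (σ a x) = σ a (dd σ b x) := fun x => by
    rw [dd_apply, dd_apply, map_sub, ← sigma_mul, ha b, sigma_mul]
  obtain ⟨s, hs⟩ := hline (σ a e) ⟨dd σ b (σ a v), ⟨_, rfl⟩, by rw [hdd, hdd]⟩
  have hs0 : s ≠ 0 := fun h => by
    apply hv
    rw [h, zero_smul] at hs
    rw [← sigma_inv_self (σ := σ) a e, ← hs, map_zero]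
  let U : Submodule F₃ V := LinearMap.ker (σ a - s • LinearMap.id)
  have hU : ∀ x, x ∈ U ↔ σ a x = s • x := fun x => by
    simp [U, LinearMap.mem_ker, sub_eq_zero]
  rcases S.irred U (fun h x hx => (hU _).2 (by
    rw [← sigma_mul, ← ha h, sigma_mul, (hU x).1 hx, map_smul])) with h | h
  · exfalso
    apply hv
    have : e ∈ U := (hU e).2 hs.symm
    rw [h] at this
    exact this
  · have hall : ∀ x, σ a x = s • x := fun x => (hU x).1 (h ▸ Submodule.mem_top)
    rcases (by decide : ∀ s : F₃, s = 0 ∨ s = 1 ∨ s = -1) s with h | h | h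
    · exact absurd h hs0
    · exact Or.inl fun x => by rw [hall, h, one_smul]
    · exact Or.inr fun x => by rw [hall, h, neg_one_smul]

/-- A normal subgroup centralised by `b` is central. -/
theorem central_of_normal (A : Subgroup H) [A.Normal] (hb : ∀ a ∈ A, b * a = a * b) :
    ∀ a ∈ A, ∀ h, h * a = a * h := by
  set C := Subgroup.centralizer (A : Set H) with hC
  have hCn : C.Normal := inferInstance
  have hbC : b ∈ C := Subgroup.mem_centralizer_iff.2 fun a ha => (hb a ha).symm
  have hRC : R ≤ C := by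
    rw [← S.comm]
    exact (Subgroup.commutator_mono le_rfl (Subgroup.zpowers_le.2 hbC)).trans
      (Subgroup.commutator_le_right R C)
  have htop : (⊤ : Subgroup H) ≤ C := S.gen ▸ sup_le hRC (Subgroup.zpowers_le.2 hbC)
  intro a ha h
  exact (Subgroup.mem_centralizer_iff.1 (htop (Subgroup.mem_top h)) a ha).symm

end Setting

/-- The lines of a four-group. -/
structure Lines (σ : Representation (ZMod 3) H V) (b w : H) (e : V) : Prop where
  ne : e ≠ 0
  w_e : σ w e = e
  w2_e : σ (b * w * b⁻¹) e = -e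
  line : ∀ v, σ w v = v → σ (b * w * b⁻¹) v = -v → ∃ c : F₃, c • e = v
  fixb : ∀ v, σ w v = v → σ (b * w * b⁻¹) v = v → σ b v = v
  split : ∀ v, ∃ (c₁ c₂ c₃ : F₃) (v₀ : V), σ w v₀ = v₀ ∧ σ (b * w * b⁻¹) v₀ = v₀ ∧
    v = c₁ • e + c₂ • σ b e + c₃ • σ b (σ b e) + v₀

theorem exists_lines_of [Finite V] (hfaith : Function.Injective σ) (hcube : b ^ 3 = 1)
    (hdimle : Module.finrank F₃ (LinearMap.range (dd σ b)) ≤ 2) {w : H} (hw : Four b w) :
    ∃ e, Lines σ b w e := by
  classical
  set u := b * w * b⁻¹ with hu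
  have hu2 : u * u = 1 := by
    rw [hu]
    calc b * w * b⁻¹ * (b * w * b⁻¹) = b * (w * w) * b⁻¹ := by group
      _ = 1 := by rw [hw.sq]; group
  have hb_u : b * u = w * u * b := by
    have h := hw.rel
    rw [← hu] at h
    rw [h]; group
  have hb_w : b * w = u * b := by rw [hu]; group
  have hwu : ∀ v, σ w (σ u v) = σ u (σ w v) := fun v => by rw [← sigma_mul, hw.com, sigma_mul]
  have hww : ∀ v, σ w (σ w v) = v := fun v => by rw [← sigma_mul, hw.sq, map_one]; rfl
  have huu : ∀ v, σ u (σ u v) = v := fun v => by rw [← sigma_mul, hu2, map_one]; rfl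
  have hbw : ∀ v, σ b (σ w v) = σ u (σ b v) := fun v => by rw [← sigma_mul, hb_w, sigma_mul]
  have hbu : ∀ v, σ b (σ u v) = σ w (σ u (σ b v)) := fun v => by
    rw [← sigma_mul, hb_u, sigma_mul, sigma_mul]
  let C (s t : F₃) (v : V) : Prop := σ w v = s • v ∧ σ u v = t • v
  let p (s t : F₃) (v : V) : V := v + s • σ w v + t • σ u v + (s * t) • σ w (σ u v)
  have hp : ∀ s t v, s * s = 1 → t * t = 1 → C s t (p s t v) := by
    intro s t v hs ht
    constructor
    · show σ w (p s t v) = s • p s t v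
      simp only [p, map_add, map_smul, hww, smul_add, smul_smul, hs, ← mul_assoc, one_mul, one_smul]
      abel
    · show σ u (p s t v) = t • p s t v
      have h1 : ∀ x, σ u (σ w x) = σ w (σ u x) := fun x => (hwu x).symm
      simp only [p, map_add, map_smul, h1, huu, smul_add, smul_smul, ht, mul_comm s t, ← mul_assoc,
        one_mul, one_smul]
      abel
  have hsum : ∀ v, p 1 1 v + p 1 (-1) v + p (-1) 1 v + p (-1) (-1) v = v := fun v => by
    simp only [p, one_smul, neg_one_smul, mul_one, one_mul, mul_neg, neg_mul, neg_neg]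
    have h4 := three_smul_zero v
    calc _ = (v + v + v) + v := by abel
      _ = v := by rw [h4, zero_add]
  -- the moves under `b`
  have hb1 : ∀ v, C 1 (-1) v → C (-1) 1 (σ b v) := by
    rintro v ⟨h1, h2⟩
    have hu' : σ u (σ b v) = σ b v := by rw [← hbw, h1, one_smul]
    refine ⟨?_, by rw [hu', one_smul]⟩
    have := hbu v
    rw [h2, map_smul, hu'] at this
    rw [← this]
  have hb2 : ∀ v, C (-1) 1 v → C (-1) (-1) (σ b v) := by
    rintro v ⟨h1, h2⟩
    have hu' : σ u (σ b v) = -σ b v := by rw [← hbw, h1, neg_one_smul, map_neg]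
    refine ⟨?_, by rw [hu', neg_one_smul]⟩
    have := hbu v
    rw [h2, one_smul, hu', map_neg] at this
    rw [neg_one_smul]; exact neg_eq_iff_eq_neg.1 this.symm
  have hb0 : ∀ v, C 1 1 v → C 1 1 (σ b v) := by
    rintro v ⟨h1, h2⟩
    have hu' : σ u (σ b v) = σ b v := by rw [← hbw, h1, one_smul]
    refine ⟨?_, by rw [hu', one_smul]⟩
    have := hbu v
    rw [h2, one_smul, hu'] at this
    rw [one_smul]; exact this.symm
  have hb3 : ∀ v, C (-1) (-1) v → C 1 (-1) (σ b v) := by
    rintro v ⟨h1, h2⟩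
    have hu' : σ u (σ b v) = -σ b v := by rw [← hbw, h1, neg_one_smul, map_neg]
    refine ⟨?_, by rw [hu', neg_one_smul]⟩
    have := hbu v
    rw [h2, neg_one_smul, map_neg, hu', map_neg, neg_inj] at this
    rw [one_smul]; exact this.symm
  -- components are unique
  have uniq : ∀ v₀ v₁ v₂ v₃, C 1 1 v₀ → C 1 (-1) v₁ → C (-1) 1 v₂ → C (-1) (-1) v₃ →
      v₀ + v₁ + v₂ + v₃ = 0 → v₀ = 0 ∧ v₁ = 0 ∧ v₂ = 0 ∧ v₃ = 0 := by
    rintro v₀ v₁ v₂ v₃ ⟨a0, b0⟩ ⟨a1, b1⟩ ⟨a2, b2⟩ ⟨a3, b3⟩ h
    simp only [one_smul, neg_one_smul] at a0 b0 a1 b1 a2 b2 a3 b3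
    have hwh := congrArg (σ w) h
    simp only [map_add, map_zero, a0, a1, a2, a3] at hwh
    have e1 : v₀ + v₁ = 0 := by
      apply eq_zero_of_eq_neg
      have : (v₀ + v₁) + (v₀ + v₁) = 0 := by
        calc (v₀ + v₁) + (v₀ + v₁) = (v₀ + v₁ + v₂ + v₃) + (v₀ + v₁ + -v₂ + -v₃) := by abel
          _ = 0 := by rw [h, hwh, add_zero]
      exact eq_neg_of_add_eq_zero_left this
    have e2 : v₂ + v₃ = 0 := by rw [add_assoc, e1, zero_add] at h; exact h
    have f1 := congrArg (σ u) e1
    simp only [map_add, map_zero, b0, b1] at f1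
    have f2 := congrArg (σ u) e2
    simp only [map_add, map_zero, b2, b3] at f2
    have g1 : v₁ = v₀ := (neg_add_eq_zero.1 (by rwa [add_comm] at f1))
    have g2 : v₃ = v₂ := (neg_add_eq_zero.1 (by rwa [add_comm] at f2))
    have z0 : v₀ = 0 := by rw [g1] at e1; exact eq_zero_of_eq_neg (eq_neg_of_add_eq_zero_left e1)
    have z2 : v₂ = 0 := by rw [g2] at e2; exact eq_zero_of_eq_neg (eq_neg_of_add_eq_zero_left e2)
    exact ⟨z0, g1.trans z0, z2, g2.trans z2⟩
  have hCs : ∀ s t v (c : F₃), C s t v → C s t (c • v) := fun s t v c h =>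
    ⟨by rw [map_smul, h.1, smul_comm], by rw [map_smul, h.2, smul_comm]⟩
  have hCa : ∀ s t v v', C s t v → C s t v' → C s t (v + v') := fun s t v v' h h' =>
    ⟨by rw [map_add, h.1, h'.1, smul_add], by rw [map_add, h.2, h'.2, smul_add]⟩
  have hCn : ∀ s t v, C s t v → C s t (-v) := fun s t v h =>
    ⟨by rw [map_neg, h.1, smul_neg], by rw [map_neg, h.2, smul_neg]⟩
  -- a nonzero vector of the first kind
  obtain ⟨e, he, heC⟩ : ∃ e, e ≠ 0 ∧ C 1 (-1) e := by
    by_contra hc
    push Not at hc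
    have z1 : ∀ v, C 1 (-1) v → v = 0 := fun v hv => by
      by_contra h; exact hc v h hv
    have z3 : ∀ v, C (-1) (-1) v → v = 0 := fun v hv => by
      rw [← sigma_inv_self (σ := σ) b v, z1 _ (hb3 v hv), map_zero]
    have z2 : ∀ v, C (-1) 1 v → v = 0 := fun v hv => by
      rw [← sigma_inv_self (σ := σ) b v, z3 _ (hb2 v hv), map_zero]
    refine hw.ne (hfaith (LinearMap.ext fun v => ?_))
    have h := hsum v
    rw [z1 _ (hp 1 (-1) v (by decide) (by decide)), z2 _ (hp (-1) 1 v (by decide) (by decide)),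
      z3 _ (hp (-1) (-1) v (by decide) (by decide)), add_zero, add_zero, add_zero] at h
    obtain ⟨h1, h2⟩ := hp 1 1 v (by decide) (by decide)
    rw [h, one_smul] at h1 h2
    rw [← hu, h1, h2]
  have hdim : ∀ (x : V) (v₀ : V), C 1 (-1) x → C 1 1 v₀ →
      (∃ c : F₃, c • e = x) ∧ σ b v₀ = v₀ := by
    intro x v₀ hx hv₀
    let Φ : (Fin 4 → F₃) →ₗ[F₃] LinearMap.range (dd σ b) :=
      LinearMap.codRestrict _ ((dd σ b).comp
        (Fintype.linearCombination F₃ ![e, x, σ b e, σ b x])) fun c => ⟨_, rfl⟩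
    have hker : ∀ c, Φ c = 0 →
        c 0 • e + c 1 • x = 0 ∧ c 2 • e + c 3 • x = 0 := by
      intro c hc
      have h : dd σ b (Fintype.linearCombination F₃ ![e, x, σ b e, σ b x] c) = 0 := congrArg Subtype.val hc
      simp [Fintype.linearCombination_apply, Fin.sum_univ_four, dd_apply] at h
      set y := c 0 • e + c 1 • x with hy
      set z := c 2 • e + c 3 • x with hz
      have hyC : C 1 (-1) y := hCa _ _ _ _ (hCs _ _ _ _ heC) (hCs _ _ _ _ hx)
      have hzC : C 1 (-1) z := hCa _ _ _ _ (hCs _ _ _ _ heC) (hCs _ _ _ _ hx)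
      obtain ⟨-, a, -, c'⟩ := uniq 0 (-y) (σ b y - σ b z) (σ b (σ b z))
        ⟨by simp, by simp⟩ (hCn _ _ _ hyC)
        (by rw [sub_eq_add_neg]; exact hCa _ _ _ _ (hb1 _ hyC) (hCn _ _ _ (hb1 _ hzC)))
        (hb2 _ (hb1 _ hzC))
        (by
          conv_rhs => rw [← h]
          rw [hy, hz, zero_add]
          simp only [map_add, map_smul]
          abel)
      refine ⟨neg_eq_zero.1 a, ?_⟩
      have h1 := sigma_inv_self (σ := σ) b (σ b z)
      rw [c', map_zero] at h1
      rw [← sigma_inv_self (σ := σ) b z, ← h1, map_zero]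
    have hx' : ∃ c : F₃, c • e = x := by
      by_contra hne
      have hinj : Function.Injective Φ := LinearMap.ker_eq_bot.1 (LinearMap.ker_eq_bot'.2 fun c hc => by
        obtain ⟨k1, k2⟩ := hker c hc
        have ind : ∀ p q : F₃, p • e + q • x = 0 → p = 0 ∧ q = 0 := fun p q h => by
          by_cases hq : q = 0
          · rw [hq, zero_smul, add_zero] at h
            exact ⟨(smul_eq_zero.1 h).resolve_right he, hq⟩
          · exfalso
            refine hne ⟨-(q⁻¹ * p), ?_⟩
            have := congrArg (fun y => q⁻¹ • y) h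
            simp only [smul_add, smul_smul, smul_zero, inv_mul_cancel₀ hq, one_smul] at this
            rw [neg_smul, neg_eq_iff_add_eq_zero, this]
        funext i
        fin_cases i
        · exact (ind _ _ k1).1
        · exact (ind _ _ k1).2
        · exact (ind _ _ k2).1
        · exact (ind _ _ k2).2)
      have := LinearMap.finrank_le_finrank_of_injective hinj
      rw [Module.finrank_fin_fun] at this
      have := hdimle
      omega
    refine ⟨hx', ?_⟩
    by_contra hne
    let Ψ : (Fin 3 → F₃) →ₗ[F₃] LinearMap.range (dd σ b) :=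
      LinearMap.codRestrict _ ((dd σ b).comp (Fintype.linearCombination F₃ ![v₀, e, σ b e])) fun c => ⟨_, rfl⟩
    have hinj : Function.Injective Ψ := LinearMap.ker_eq_bot.1 (LinearMap.ker_eq_bot'.2 fun c hc => by
      have h : dd σ b (Fintype.linearCombination F₃ ![v₀, e, σ b e] c) = 0 := congrArg Subtype.val hc
      simp [Fintype.linearCombination_apply, Fin.sum_univ_three, dd_apply] at h
      obtain ⟨a0, a1, -, a3⟩ := uniq (c 0 • (σ b v₀ - v₀)) (-(c 1 • e))
        ((c 1 - c 2) • σ b e) (c 2 • σ b (σ b e))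
        (hCs _ _ _ _ (by rw [sub_eq_add_neg]; exact hCa _ _ _ _ (hb0 _ hv₀) (hCn _ _ _ hv₀)))
        (hCn _ _ _ (hCs _ _ _ _ heC)) (hCs _ _ _ _ (hb1 _ heC)) (hCs _ _ _ _ (hb2 _ (hb1 _ heC)))
        (by rw [← h]; simp only [smul_sub, sub_smul]; abel)
      have hbe : σ b (σ b e) ≠ 0 := fun h => he (by
        have h1 := sigma_inv_self (σ := σ) b (σ b e)
        rw [h, map_zero] at h1
        rw [← sigma_inv_self (σ := σ) b e, ← h1, map_zero])
      funext i
      fin_cases i
      · exact (smul_eq_zero.1 a0).resolve_right (sub_ne_zero.2 hne)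
      · exact (smul_eq_zero.1 (neg_eq_zero.1 a1)).resolve_right he
      · exact (smul_eq_zero.1 a3).resolve_right hbe)
    have := LinearMap.finrank_le_finrank_of_injective hinj
    rw [Module.finrank_fin_fun] at this
    have := hdimle
    omega
  have h0 : C 1 1 0 := ⟨by simp, by simp⟩
  refine ⟨e, he, by rw [heC.1, one_smul], by rw [heC.2, neg_one_smul], fun v h1 h2 => ?_,
    fun v h1 h2 => ?_, fun v => ?_⟩
  · exact (hdim v 0 ⟨by rw [h1, one_smul], by rw [h2, neg_one_smul]⟩ h0).1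
  · exact (hdim e v heC ⟨by rw [h1, one_smul], by rw [h2, one_smul]⟩).2
  · have hline : ∀ x, C 1 (-1) x → ∃ c : F₃, c • e = x := fun x hx => (hdim x 0 hx h0).1
    obtain ⟨c₁, hc₁⟩ := hline _ (hp 1 (-1) v (by decide) (by decide))
    obtain ⟨c₃, hc₃⟩ := hline _ (hb3 _ (hp (-1) (-1) v (by decide) (by decide)))
    obtain ⟨c₂, hc₂⟩ := hline _ (hb3 _ (hb2 _ (hp (-1) 1 v (by decide) (by decide))))
    have hbbb : ∀ x, σ b (σ b (σ b x)) = x := fun x => by
      rw [← sigma_mul, ← sigma_mul, show b * b * b = b ^ 3 by simp [pow_succ], hcube, map_one]; rfl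
    obtain ⟨h1, h2⟩ := hp 1 1 v (by decide) (by decide)
    refine ⟨c₁, c₂, c₃, p 1 1 v, by rw [h1, one_smul], by rw [h2, one_smul], ?_⟩
    conv_lhs => rw [← hsum v]
    have e2 : c₂ • σ b e = p (-1) 1 v := by
      rw [← map_smul, hc₂, hbbb]
    have e3 : c₃ • σ b (σ b e) = p (-1) (-1) v := by
      rw [← map_smul, ← map_smul, hc₃, hbbb]
    rw [hc₁, e2, e3]
    abel

theorem Setting.exists_lines [Finite V] (S : Setting σ R b) {w : H} (hw : Four b w) :
    ∃ e, Lines σ b w e :=
  exists_lines_of S.faith S.b3 S.dimle hw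

end Cfsg.Agent.JordanThree
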