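/-
Abelian normal subgroups of odd prime power order are trivial in the Jordan block setting.
-/
import Cfsg.Agent.Lib.JordanThree.Basic

set_option autoImplicit false

namespace Cfsg.Agent.JordanThree

local notation "F₃" => ZMod 3

variable {H V : Type*} [Group H] [AddCommGroup V] [Module (ZMod 3) V] [Finite V]
variable {σ : Representation (ZMod 3) H V} {R : Subgroup H} {b w : H}

/-- An element of `p`-power order fixes every invariant space spanned by two vectors. -/
theorem fix_of_two {p : ℕ} (hp : p.Prime) (hp2 : p ≠ 2) (hp3 : p ≠ 3) {g : H} {k : ℕ}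
    (hg : g ^ (p ^ k) = 1) (x y : V)
    (hinv : ∀ v ∈ Submodule.span F₃ ({x, y} : Set V), σ g v ∈ Submodule.span F₃ ({x, y} : Set V)) :
    ∀ v ∈ Submodule.span F₃ ({x, y} : Set V), σ g v = v := by
  classical
  have : Fact p.Prime := ⟨hp⟩
  set U := Submodule.span F₃ ({x, y} : Set V) with hU
  have hU9 : Nat.card U ∣ 9 := by
    have h2 : Module.finrank F₃ U ≤ 2 := by
      refine le_trans (finrank_span_le_card ({x, y} : Set V)) ?_
      rw [Set.toFinset_card]
      calc Fintype.card ↑({x, y} : Set V) = Nat.card ({x, y} : Set V) := Nat.card_eq_fintype_card.symm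
        _ = ({x, y} : Set V).ncard := Nat.card_coe_set_eq _
        _ ≤ 2 := by
          refine le_trans (Set.ncard_insert_le _ _) ?_
          rw [Set.ncard_singleton]
    rw [Module.natCard_eq_pow_finrank (K := F₃) (V := U), Nat.card_zmod]
    exact pow_dvd_pow 3 h2
  let f : U → U := fun v => ⟨σ g v, hinv v v.2⟩
  have hf : Function.Injective f := fun a c h => Subtype.ext (by
    have h' : σ g (a : V) = σ g (c : V) := congrArg Subtype.val h
    rw [← sigma_inv_self (σ := σ) g (a : V), h', sigma_inv_self])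
  let τ : Equiv.Perm U := Equiv.ofBijective f ((Finite.injective_iff_bijective).1 hf)
  have hpow : ∀ (n : ℕ) (v : U), (((τ ^ n) v : U) : V) = σ (g ^ n) v := by
    intro n
    induction n with
    | zero => intro v; simp
    | succ n ih =>
      intro v
      rw [pow_succ' τ, Equiv.Perm.mul_apply, pow_succ' g, sigma_mul, ← ih]
      rfl
  have hτ : τ ^ (p ^ k) = 1 := by
    ext v
    rw [hpow, hg, map_one]; rfl
  have hP : IsPGroup p (Subgroup.zpowers τ) := by
    obtain ⟨j, -, hj⟩ := (Nat.dvd_prime_pow hp).1 (orderOf_dvd_of_pow_eq_one hτ)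
    exact IsPGroup.of_card (n := j) (by rw [Nat.card_zpowers, hj])
  have hmod := hP.card_modEq_card_fixedPoints U
  let F : Submodule F₃ U := LinearMap.ker ((σ g - LinearMap.id).comp U.subtype)
  have hF : ∀ v : U, v ∈ F ↔ σ g (v : V) = v := fun v => by
    simp [F, LinearMap.mem_ker, sub_eq_zero]
  have hfix : Nat.card (MulAction.fixedPoints (Subgroup.zpowers τ) U) = Nat.card F := by
    refine Nat.card_congr (Equiv.subtypeEquivRight fun v => ?_)
    show v ∈ MulAction.fixedPoints (Subgroup.zpowers τ) U ↔ v ∈ F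
    rw [hF]
    constructor
    · intro h
      exact congrArg Subtype.val (h ⟨τ, Subgroup.mem_zpowers τ⟩)
    · rintro h ⟨_, n, rfl⟩
      show (τ ^ n) v = v
      exact Equiv.Perm.zpow_apply_eq_self_of_apply_eq_self (Subtype.ext h) n
  rw [hfix] at hmod
  have hdvd : Nat.card F ∣ Nat.card U := F.toAddSubgroup.card_addSubgroup_dvd_card
  have hFU : Nat.card F = Nat.card U := by
    have h39 : ∀ n : ℕ, n ∣ 9 → n = 1 ∨ n = 3 ∨ n = 9 := by
      intro n hn
      have := Nat.le_of_dvd (by norm_num) hn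
      interval_cases n <;> simp_all <;> omega
    rcases h39 _ hU9 with a | a | a <;>
      rcases h39 _ (hdvd.trans hU9) with c | c | c <;> rw [a, c] at hmod ⊢ <;>
      first
        | rfl
        | (exfalso; rw [a, c] at hdvd; norm_num at hdvd; done)
        | (exfalso
           have h' := (Nat.modEq_iff_dvd' (by norm_num)).1 hmod.symm
           norm_num at h'
           have := Nat.le_of_dvd (by norm_num) h'
           have h2 := hp.two_le
           interval_cases p <;> first | omega | norm_num at hp)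
  intro v hv
  have htop : F = ⊤ := by
    have := Subgroup.eq_top_of_card_eq (AddSubgroup.toSubgroup F.toAddSubgroup) hFU
    rw [eq_top_iff]
    intro u _
    have hu : Multiplicative.ofAdd u ∈ AddSubgroup.toSubgroup F.toAddSubgroup := this ▸ Subgroup.mem_top _
    exact hu
  exact (hF ⟨v, hv⟩).1 (htop ▸ Submodule.mem_top)

theorem Four.rot (F : Four b w) : Four b (b * w * b⁻¹) := by
  have h2 : (b * w * b⁻¹) * (b * w * b⁻¹) = 1 := by
    calc b * w * b⁻¹ * (b * w * b⁻¹) = b * (w * w) * b⁻¹ := by group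
      _ = 1 := by rw [F.sq]; group
  refine ⟨h2, fun h => F.ne (mul_left_cancel (mul_right_cancel h)), ?_, ?_⟩
  · have := congrArg (fun x => b * x * b⁻¹) F.rel
    calc (b * w * b⁻¹) * (b * (b * w * b⁻¹) * b⁻¹) = b * (w * (b * w * b⁻¹)) * b⁻¹ := by group
      _ = _ := this
  · have := congrArg (fun x => b * x * b⁻¹) F.com
    calc (b * w * b⁻¹) * (b * (b * w * b⁻¹) * b⁻¹) = b * (w * (b * w * b⁻¹)) * b⁻¹ := by group
      _ = b * (b * w * b⁻¹ * w) * b⁻¹ := this
      _ = _ := by group

namespace Lines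

variable {e : V}

theorem bne (L : Lines σ b w e) : σ b e ≠ 0 ∧ σ b (σ b e) ≠ 0 := by
  have h1 : σ b e ≠ 0 := fun h => L.ne (by rw [← sigma_inv_self (σ := σ) b e, h, map_zero])
  exact ⟨h1, fun h => h1 (by rw [← sigma_inv_self (σ := σ) b (σ b e), h, map_zero])⟩

theorem eigen_of (F : Four b w) (L : Lines σ b w e) :
    σ w (σ b e) = -σ b e ∧ σ (b * w * b⁻¹) (σ b e) = σ b e ∧
    σ w (σ b (σ b e)) = -σ b (σ b e) ∧ σ (b * w * b⁻¹) (σ b (σ b e)) = -σ b (σ b e) := by
  set u := b * w * b⁻¹ with hu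
  have m : ∀ (x : H) (v : V), σ (b * x * b⁻¹) (σ b v) = σ b (σ x v) := fun x v => by
    rw [sigma_mul, sigma_mul, sigma_inv_self]
  have e2u : σ u (σ b e) = σ b e := by rw [hu, m, L.w_e]
  have huu : σ (b * u * b⁻¹) (σ b e) = -σ b e := by rw [m, L.w2_e, map_neg]
  have hrel : b * u * b⁻¹ = w * u := F.rel.symm
  have e2w : σ w (σ b e) = -σ b e := by
    rw [hrel, sigma_mul, e2u] at huu; exact huu
  have e3u : σ u (σ b (σ b e)) = -σ b (σ b e) := by rw [hu, m, e2w, map_neg]
  have e3wu : σ (b * u * b⁻¹) (σ b (σ b e)) = σ b (σ b e) := by rw [m, e2u]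
  rw [hrel, sigma_mul, e3u, map_neg] at e3wu
  exact ⟨e2w, e2u, neg_eq_iff_eq_neg.1 e3wu, e3u⟩

theorem eigen (_S : Setting σ R b) (F : Four b w) (L : Lines σ b w e) :
    σ w (σ b e) = -σ b e ∧ σ (b * w * b⁻¹) (σ b e) = σ b e ∧
    σ w (σ b (σ b e)) = -σ b (σ b e) ∧ σ (b * w * b⁻¹) (σ b (σ b e)) = -σ b (σ b e) :=
  eigen_of F L

end Lines

namespace Setting

variable (S : Setting σ R b)
include S

theorem faith' {g : H} (h : ∀ v, σ g v = v) : g = 1 :=
  S.faith (LinearMap.ext fun v => by rw [h, map_one]; rfl)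

theorem centralized_inverted [Finite H] (F : Four b w) (A : Subgroup H) [A.Normal]
    (hab : ∀ x ∈ A, ∀ y ∈ A, x * y = y * x) {p : ℕ} (hp : p.Prime) (hp2 : p ≠ 2) (hp3 : p ≠ 3)
    {g : H} (hgA : g ∈ A) {k : ℕ} (hgk : g ^ (p ^ k) = 1) (hgw : g * w = w * g)
    (hgu : b * w * b⁻¹ * g * (b * w * b⁻¹)⁻¹ = g⁻¹) : g = 1 := by
  obtain ⟨e, L⟩ := S.exists_lines F
  obtain ⟨e2w, e2u, e3w, e3u⟩ := L.eigen S F
  set u := b * w * b⁻¹ with hu
  have hb3 : ∀ v, σ b (σ b (σ b v)) = v := fun v => by
    rw [← sigma_mul, ← sigma_mul, show b * b * b = b ^ 3 by simp [pow_succ], S.b3, map_one]; rfl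
  have hww : ∀ v, σ w (σ g v) = σ g (σ w v) := fun v => by rw [← sigma_mul, ← hgw, sigma_mul]
  -- the two eigenspaces of `w`
  have hminus : ∀ v, σ w v = -v → ∃ c₂ c₃ : F₃, v = c₂ • σ b e + c₃ • σ b (σ b e) := by
    intro v hv
    obtain ⟨c₁, c₂, c₃, v₀, h0w, -, rfl⟩ := L.split v
    refine ⟨c₂, c₃, ?_⟩
    simp only [map_add, map_smul, L.w_e, e2w, e3w, h0w, smul_neg] at hv
    have h : c₁ • e + v₀ = -(c₁ • e + v₀) := by
      calc c₁ • e + v₀ = (c₁ • e + -(c₂ • σ b e) + -(c₃ • σ b (σ b e)) + v₀) +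
            (c₂ • σ b e + c₃ • σ b (σ b e)) := by abel
        _ = -(c₁ • e + v₀) := by rw [hv]; abel
    have h0 := eq_zero_of_eq_neg h
    calc c₁ • e + c₂ • σ b e + c₃ • σ b (σ b e) + v₀ = (c₁ • e + v₀) + (c₂ • σ b e + c₃ • σ b (σ b e)) := by abel
      _ = _ := by rw [h0, zero_add]
  have hplus : ∀ v, σ w v = v → ∃ (c : F₃) (v₀ : V), σ w v₀ = v₀ ∧ σ u v₀ = v₀ ∧ v = c • e + v₀ := by
    intro v hv
    obtain ⟨c₁, c₂, c₃, v₀, h0w, h0u, rfl⟩ := L.split v
    refine ⟨c₁, v₀, h0w, h0u, ?_⟩
    simp only [map_add, map_smul, L.w_e, e2w, e3w, h0w, smul_neg] at hv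
    have h : c₂ • σ b e + c₃ • σ b (σ b e) = -(c₂ • σ b e + c₃ • σ b (σ b e)) := by
      calc c₂ • σ b e + c₃ • σ b (σ b e) =
          (c₁ • e + c₂ • σ b e + c₃ • σ b (σ b e) + v₀) - (c₁ • e + v₀) := by abel
        _ = (c₁ • e + -(c₂ • σ b e) + -(c₃ • σ b (σ b e)) + v₀) - (c₁ • e + v₀) := by rw [hv]
        _ = _ := by abel
    have h0 := eq_zero_of_eq_neg h
    calc c₁ • e + c₂ • σ b e + c₃ • σ b (σ b e) + v₀ = (c₁ • e + v₀) + (c₂ • σ b e + c₃ • σ b (σ b e)) := by abel
      _ = _ := by rw [h0, add_zero]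
  set P := Submodule.span F₃ ({σ b e, σ b (σ b e)} : Set V) with hP
  have hPmem : ∀ v ∈ P, σ w v = -v := by
    intro v hv
    obtain ⟨a, c, rfl⟩ := Submodule.mem_span_pair.1 hv
    rw [map_add, map_smul, map_smul, e2w, e3w, neg_add, smul_neg, smul_neg]
  have hg23 : ∀ v ∈ P, σ g v = v := fix_of_two hp hp2 hp3 hgk _ _ fun v hv => by
    obtain ⟨c₂, c₃, h⟩ := hminus (σ g v) (by rw [hww, hPmem v hv, map_neg])
    rw [h]; exact Submodule.mem_span_pair.2 ⟨c₂, c₃, rfl⟩
  have hg2 : σ g (σ b e) = σ b e := hg23 _ (Submodule.subset_span (by simp))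
  have hg3 : σ g (σ b (σ b e)) = σ b (σ b e) := hg23 _ (Submodule.subset_span (by simp))
  set g₂ := b * g * b⁻¹ with hg₂
  have hg₂A : g₂ ∈ A := ‹A.Normal›.conj_mem g hgA b
  have hcomm : ∀ v, σ g (σ g₂ v) = σ g₂ (σ g v) := fun v => by
    rw [← sigma_mul, hab g hgA g₂ hg₂A, sigma_mul]
  have hg₂e : σ g₂ e = e := by
    have := congrArg (σ b) hg3
    rw [hb3] at this
    calc σ g₂ e = σ b (σ g (σ b⁻¹ e)) := by rw [hg₂, sigma_mul, sigma_mul]
      _ = σ b (σ g (σ b (σ b e))) := by
        congr 2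
        conv_lhs => rw [← hb3 e]
        rw [sigma_inv_self]
      _ = e := this
  have hbinv : ∀ v, σ b v = v → σ b⁻¹ v = v := fun v hv => by
    conv_lhs => rw [← hv]
    exact sigma_inv_self b v
  have hg₂v : ∀ v, σ w v = v → σ u v = v → σ g₂ v = σ b (σ g v) := fun v h1 h2 => by
    rw [hg₂, sigma_mul, sigma_mul, hbinv v (L.fixb v h1 h2)]
  -- `g` fixes `e`
  have hge : σ g e = e := by
    obtain ⟨α, c, hcw, hcu, hc⟩ := hplus (σ g e) (by rw [hww, L.w_e])
    have h1 := hcomm e
    rw [hg₂e, hc, map_add, map_smul, hg₂e] at h1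
    have hc2 : σ g₂ c = c := (add_left_cancel h1).symm
    have hgc : σ g c = c := by
      rw [hg₂v c hcw hcu] at hc2
      have := congrArg (σ b⁻¹) hc2
      rwa [sigma_inv_self, hbinv c (L.fixb c hcw hcu)] at this
    refine fix_of_two hp hp2 hp3 hgk e c (fun v hv => ?_) e (Submodule.subset_span (by simp))
    obtain ⟨a, d, rfl⟩ := Submodule.mem_span_pair.1 hv
    rw [map_add, map_smul, map_smul, hc, hgc, smul_add, smul_smul]
    exact Submodule.mem_span_pair.2 ⟨a * α, a + d, by rw [add_smul]; abel⟩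
  -- `g` fixes the common fixed space
  have hg0 : ∀ v, σ w v = v → σ u v = v → σ g v = v := by
    intro v hvw hvu
    obtain ⟨r, x, hxw, hxu, hx⟩ := hplus (σ g v) (by rw [hww, hvw])
    obtain ⟨r', x', hx'w, hx'u, hx'⟩ := hplus (σ g x) (by rw [hww, hxw])
    have h2v : σ g₂ v = r • σ b e + x := by
      rw [hg₂v v hvw hvu, hx, map_add, map_smul, L.fixb x hxw hxu]
    have h2x : σ g₂ x = r' • σ b e + x' := by
      rw [hg₂v x hxw hxu, hx', map_add, map_smul, L.fixb x' hx'w hx'u]
    have h1 := hcomm v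
    rw [h2v, hx, map_add, map_smul, hg2, map_add, map_smul, hg₂e, h2x, hx'] at h1
    have hrr : r = r' := by
      have h3 : r • σ b e + r' • e = r • e + r' • σ b e := by
        apply add_right_cancel (b := x')
        calc r • σ b e + r' • e + x' = r • σ b e + (r' • e + x') := by abel
          _ = r • e + (r' • σ b e + x') := h1
          _ = r • e + r' • σ b e + x' := by abel
      have h4 := congrArg (σ w) h3
      simp only [map_add, map_smul, e2w, L.w_e, smul_neg] at h4
      have h5 : (r - r') • e + (r - r') • e = (0 : V) := by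
        have hsum := congrArg₂ (· + ·) h3 h4
        calc (r - r') • e + (r - r') • e = (r • e + r' • σ b e + (r • e + -(r' • σ b e))) -
              (r • σ b e + r' • e + (-(r • σ b e) + r' • e)) := by rw [sub_smul]; abel
          _ = 0 := by rw [hsum, sub_self]
      have h6 := eq_zero_of_eq_neg (eq_neg_of_add_eq_zero_left h5)
      exact sub_eq_zero.1 ((smul_eq_zero.1 h6).resolve_right L.ne)
    -- inversion by `u`
    have hinvu : σ g (σ u (σ g v)) = v := by
      have hh : g * u * g = u := by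
        have h := hgu
        have h' : u * g = g⁻¹ * u := by rw [← h]; group
        rw [mul_assoc, h', ← mul_assoc, mul_inv_cancel, one_mul]
      rw [← sigma_mul, ← sigma_mul, hh, hvu]
    rw [hx, map_add, map_smul, L.w2_e, hxu, map_add, map_smul, map_neg, hge, hx', ← hrr, smul_neg] at hinvu
    have hx'v : x' = v := by
      rw [← add_assoc, neg_add_cancel, zero_add] at hinvu; exact hinvu
    have hg2v : σ g (σ g v) = (r + r) • e + v := by
      rw [hx, map_add, map_smul, hge, hx', ← hrr, hx'v, add_smul]; abel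
    have hfix2 : σ g (σ g v) = v := by
      have h2k : (g * g) ^ (p ^ k) = 1 := by
        rw [← pow_two, ← pow_mul, mul_comm, pow_mul, hgk, one_pow]
      have := fix_of_two (σ := σ) hp hp2 hp3 h2k e v (fun y hy => ?_) v (Submodule.subset_span (by simp))
      · rwa [sigma_mul] at this
      obtain ⟨a, d, rfl⟩ := Submodule.mem_span_pair.1 hy
      rw [map_add, map_smul, map_smul, sigma_mul, sigma_mul, hge, hge, hg2v, smul_add, smul_smul]
      exact Submodule.mem_span_pair.2 ⟨a + d * (r + r), d, by rw [add_smul]; abel⟩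
    obtain ⟨j, hj⟩ : Odd (p ^ k) := (hp.odd_of_ne_two hp2).pow
    have heven : ∀ n : ℕ, σ ((g * g) ^ n) v = v := by
      intro n
      induction n with
      | zero => rw [pow_zero, map_one]; rfl
      | succ n ih => rw [pow_succ, sigma_mul, sigma_mul, hfix2, ih]
    calc σ g v = σ g (σ ((g * g) ^ j) v) := by rw [heven]
      _ = σ (g ^ (p ^ k)) v := by rw [← sigma_mul, hj, ← pow_two, ← pow_mul, ← pow_succ']
      _ = v := by rw [hgk, map_one]; rfl
  apply S.faith'
  intro v
  obtain ⟨c₁, c₂, c₃, v₀, h0w, h0u, rfl⟩ := L.split v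
  simp only [map_add, map_smul, hge, hg2, hg3, hg0 v₀ h0w h0u]

/-- Abelian normal `p`-subgroups are trivial for `p ≠ 2, 3`. -/
theorem odd_trivial [Finite H] (F : Four b w) (A : Subgroup H) [A.Normal]
    (hab : ∀ x ∈ A, ∀ y ∈ A, x * y = y * x) {p : ℕ} (hp : p.Prime) (hp2 : p ≠ 2) (hp3 : p ≠ 3)
    (hA : IsPGroup p A) : A = ⊥ := by
  have hpow : ∀ g ∈ A, ∃ k, g ^ (p ^ k) = 1 := fun g hg => by
    obtain ⟨k, hk⟩ := hA ⟨g, hg⟩
    exact ⟨k, by simpa using congrArg Subtype.val hk⟩
  set u := b * w * b⁻¹ with hu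
  have hinvA : ∀ g ∈ A, ∀ h : H, h * g * h⁻¹ ∈ A := fun g hg h => ‹A.Normal›.conj_mem g hg h
  -- `C_A(s)` is centralised by the next conjugate
  have step : ∀ s, Four b s → ∀ g ∈ A, g * s = s * g → g * (b * s * b⁻¹) = (b * s * b⁻¹) * g := by
    intro s Fs g hg hgs
    set t := b * s * b⁻¹ with ht
    have htt : t * t = 1 := Fs.rot.sq
    have hti : t⁻¹ = t := inv_eq_of_mul_eq_one_right htt
    have hsti : s * t = t * s := Fs.com
    clear_value t
    set y := g * (t * g⁻¹ * t⁻¹) with hy
    have hyA : y ∈ A := A.mul_mem hg (hinvA _ (A.inv_mem hg) _)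
    obtain ⟨k, hk⟩ := hpow y hyA
    have hys : y * s = s * y := by
      have e1 : Commute g s := hgs
      have e2 : Commute t s := hsti.symm
      exact (e1.mul_left ((e2.mul_left e1.inv_left).mul_left e2.inv_left)).eq
    have hyt : t * y * t⁻¹ = y⁻¹ := by
      rw [hy, mul_inv_rev, hti]
      calc t * (g * (t * g⁻¹ * t)) * t = (t * g * t) * g⁻¹ * (t * t) := by group
        _ = (t * g * t) * g⁻¹ := by rw [htt, mul_one]
        _ = (t * g⁻¹ * t)⁻¹ * g⁻¹ := by
          congr 1
          rw [mul_inv_rev, mul_inv_rev, inv_inv, hti, mul_assoc]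
    have h1 := S.centralized_inverted Fs A hab hp hp2 hp3 hyA hk hys (ht ▸ hyt)
    rw [hy, hti] at h1
    calc g * t = g * t * ((g⁻¹ * g) * (t * t)) := by rw [htt]; group
      _ = (g * (t * g⁻¹ * t)) * (t⁻¹ * g * t * t) := by group
      _ = t * g := by rw [h1, one_mul, hti, mul_assoc, htt, mul_one]
  -- so each such element centralises the four-group
  set v := b * u * b⁻¹ with hv
  have hv' : v = w * u := F.rel.symm
  have cQ : ∀ g ∈ A, (g * w = w * g ∨ g * u = u * g ∨ g * v = v * g) → g * w = w * g ∧ g * u = u * g := by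
    intro g hg h
    have hbv : b * v * b⁻¹ = w := by
      have h3 : b ^ 3 = 1 := S.b3
      have hb3i : b * b * b = 1 := by rw [← h3]; simp [pow_succ]
      calc b * v * b⁻¹ = (b * b * b) * w * (b * b * b)⁻¹ := by rw [hv, hu]; group
        _ = w := by rw [hb3i]; group
    rcases h with h | h | h
    · exact ⟨h, step w F g hg h⟩
    · have h1 : g * v = v * g := step u F.rot g hg h
      have h2 := step v F.rot.rot g hg h1
      rw [hbv] at h2
      exact ⟨h2, h⟩
    · have h2 := step v F.rot.rot g hg h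
      rw [hbv] at h2
      exact ⟨h2, step w F g hg h2⟩
  obtain ⟨e, L⟩ := S.exists_lines F
  obtain ⟨e2w, e2u, e3w, e3u⟩ := L.eigen S F
  rw [← hu] at e2u e3u
  -- elements centralising the four-group are centralised by `b`
  have cb : ∀ g ∈ A, g * w = w * g → g * u = u * g → b * g = g * b := by
    intro g hg hgw hgu
    obtain ⟨k, hk⟩ := hpow g hg
    have hinv2 : ∀ x, σ w (σ g x) = σ g (σ w x) ∧ σ u (σ g x) = σ g (σ u x) := fun x =>
      ⟨by rw [← sigma_mul, ← hgw, sigma_mul], by rw [← sigma_mul, ← hgu, sigma_mul]⟩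
    have hge : σ g e = e := by
      obtain ⟨c, hc⟩ := L.line (σ g e) (by rw [(hinv2 e).1, L.w_e]) (by rw [← hu, (hinv2 e).2, hu, L.w2_e, map_neg])
      refine fix_of_two hp hp2 hp3 hk e e (fun y hy => ?_) e (Submodule.subset_span (by simp))
      obtain ⟨a, d, rfl⟩ := Submodule.mem_span_pair.1 hy
      rw [map_add, map_smul, map_smul, ← hc, smul_smul, smul_smul]
      exact Submodule.mem_span_pair.2 ⟨a * c, d * c, rfl⟩
    have hb3 : ∀ v, σ b (σ b (σ b v)) = v := fun v => by
      rw [← sigma_mul, ← sigma_mul, show b * b * b = b ^ 3 by simp [pow_succ], S.b3, map_one]; rfl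
    have hge3 : σ g (σ b (σ b e)) = σ b (σ b e) := by
      have h1 : σ w (σ g (σ b (σ b e))) = -σ g (σ b (σ b e)) := by rw [(hinv2 _).1, e3w, map_neg]
      have h2 : σ u (σ g (σ b (σ b e))) = -σ g (σ b (σ b e)) := by rw [(hinv2 _).2, e3u, map_neg]
      have h3 : σ w (σ b (σ g (σ b (σ b e)))) = σ b (σ g (σ b (σ b e))) := by
        rw [← sigma_mul, show w * b = b * v by
          have h3 : b * b * b = 1 := by rw [← S.b3]; simp [pow_succ]
          rw [hv, hu]
          calc w * b = (b * b * b) * w * (b * b * b)⁻¹ * b := by rw [h3]; group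
            _ = b * (b * (b * w * b⁻¹) * b⁻¹) := by group, sigma_mul, hv', sigma_mul, h2, map_neg, h1, neg_neg]
      have h4 : σ u (σ b (σ g (σ b (σ b e)))) = -σ b (σ g (σ b (σ b e))) := by
        rw [hu, sigma_mul, sigma_mul, sigma_inv_self, h1, map_neg]
      obtain ⟨c, hc⟩ := L.line _ h3 h4
      refine fix_of_two hp hp2 hp3 hk (σ b (σ b e)) (σ b (σ b e)) (fun y hy => ?_) _ (Submodule.subset_span (by simp))
      obtain ⟨a, d, rfl⟩ := Submodule.mem_span_pair.1 hy
      have hgc : σ g (σ b (σ b e)) = c • σ b (σ b e) := by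
        have := congrArg (fun y => σ b (σ b y)) hc
        rw [hb3] at this
        rw [← this, map_smul, map_smul]
      rw [map_add, map_smul, map_smul, hgc, smul_smul, smul_smul]
      exact Submodule.mem_span_pair.2 ⟨a * c, d * c, rfl⟩
    have hge2 : σ g (σ b e) = σ b e := by
      have h1 : σ w (σ g (σ b e)) = -σ g (σ b e) := by rw [(hinv2 _).1, e2w, map_neg]
      have h2 : σ u (σ g (σ b e)) = σ g (σ b e) := by rw [(hinv2 _).2, e2u]
      set z := σ b⁻¹ (σ g (σ b e)) with hz
      have h3 : σ w z = z := by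
        rw [hz, ← sigma_mul, show w * b⁻¹ = b⁻¹ * u by rw [hu]; group, sigma_mul, h2]
      have h4 : σ u z = -z := by
        rw [hz, ← sigma_mul, show u * b⁻¹ = b⁻¹ * v by rw [hv]; group, sigma_mul, hv', sigma_mul, h2, h1, map_neg]
      obtain ⟨c, hc⟩ := L.line z h3 h4
      refine fix_of_two hp hp2 hp3 hk (σ b e) (σ b e) (fun y hy => ?_) _ (Submodule.subset_span (by simp))
      obtain ⟨a, d, rfl⟩ := Submodule.mem_span_pair.1 hy
      have hgc : σ g (σ b e) = c • σ b e := by
        rw [← map_smul, hc, hz, sigma_self_inv]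
      rw [map_add, map_smul, map_smul, hgc, smul_smul, smul_smul]
      exact Submodule.mem_span_pair.2 ⟨a * c, d * c, rfl⟩
    apply S.faith
    refine LinearMap.ext fun x => ?_
    obtain ⟨c₁, c₂, c₃, v₀, h0w, h0u, rfl⟩ := L.split x
    rw [sigma_mul, sigma_mul]
    simp only [map_add, map_smul, hge, hge2, hge3, L.fixb v₀ h0w h0u, hb3]
    rw [L.fixb (σ g v₀) (by rw [(hinv2 _).1, h0w]) (by rw [← hu, (hinv2 _).2, hu, h0u])]
  -- every element centralises the four-group
  have hall : ∀ g ∈ A, g * w = w * g ∧ g * u = u * g := by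
    intro g hg
    have hwi : w⁻¹ = w := inv_eq_of_mul_eq_one_right F.sq
    have hui : u⁻¹ = u := inv_eq_of_mul_eq_one_right F.rot.sq
    have hvi : v⁻¹ = v := inv_eq_of_mul_eq_one_right F.rot.rot.sq
    have mem : ∀ s, s * s = 1 → (g * (s * g * s⁻¹)) * s = s * (g * (s * g * s⁻¹)) := by
      intro s hs
      have hsi : s⁻¹ = s := inv_eq_of_mul_eq_one_right hs
      have hc := hab g hg (s * g * s⁻¹) (hinvA g hg s)
      rw [hsi] at hc ⊢
      calc g * (s * g * s) * s = g * s * g * (s * s) := by group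
        _ = g * s * g := by rw [hs, mul_one]
        _ = (s * s) * g * s * g := by rw [hs, one_mul]
        _ = s * (s * g * s * g) := by group
        _ = s * (g * (s * g * s)) := by rw [← hc]
    have h1 := cQ _ (A.mul_mem hg (hinvA g hg w)) (Or.inl (mem w F.sq))
    have h2 := cQ _ (A.mul_mem hg (hinvA g hg u)) (Or.inr (Or.inl (mem u F.rot.sq)))
    have h3 := cQ _ (A.mul_mem hg (hinvA g hg v)) (Or.inr (Or.inr (mem v F.rot.rot.sq)))
    let C : Subgroup H := Subgroup.centralizer ({w, u} : Set H)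
    have memC : ∀ y, y * w = w * y ∧ y * u = u * y → y ∈ C := by
      intro y hy
      rw [Subgroup.mem_centralizer_iff]
      rintro t (rfl | rfl)
      · exact hy.1.symm
      · exact hy.2.symm
    set a := w * g * w⁻¹ with ha
    set c := u * g * u⁻¹ with hc
    set d := v * g * v⁻¹ with hd
    have hm : (g * a) * (g * c) * (g * d) ∈ C :=
      C.mul_mem (C.mul_mem (memC _ h1) (memC _ h2)) (memC _ h3)
    let : CommGroup A := { (inferInstance : Group A) with mul_comm := fun x y => Subtype.ext (hab x x.2 y y.2) }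
    have e1 : (g * a) * (g * c) * (g * d) = g * g * (g * a * c * d) := by
      have key : ∀ g a c d : A, (g * a) * (g * c) * (g * d) = g * g * (g * a * c * d) := fun g a c d => by
        simp only [mul_comm, mul_left_comm]
      have := congrArg Subtype.val (key ⟨g, hg⟩ ⟨a, hinvA g hg w⟩ ⟨c, hinvA g hg u⟩ ⟨d, hinvA g hg v⟩)
      simpa using this
    have hP : g * a * c * d ∈ C := by
      refine memC _ ⟨?_, ?_⟩
      · have ea : w * g * w⁻¹ = a := rfl
        have eg : w * a * w⁻¹ = g := by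
          rw [ha, hwi]; calc w * (w * g * w) * w = (w * w) * g * (w * w) := by group
            _ = g := by rw [F.sq]; group
        have ec : w * c * w⁻¹ = d := by
          rw [hc, hd, hv']; clear_value u; group
        have ed : w * d * w⁻¹ = c := by
          rw [← ec, hwi]; calc w * (w * c * w) * w = (w * w) * c * (w * w) := by group
            _ = c := by rw [F.sq]; group
        have hconj : w * (g * a * c * d) * w⁻¹ = g * a * c * d := by
          calc w * (g * a * c * d) * w⁻¹ = (w * g * w⁻¹) * (w * a * w⁻¹) * (w * c * w⁻¹) * (w * d * w⁻¹) := by group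
            _ = a * g * d * c := by rw [ea, eg, ec, ed]
            _ = g * a * c * d := by
              rw [hab a (hinvA g hg w) g hg, mul_assoc (g * a), hab d (hinvA g hg v) c (hinvA g hg u), mul_assoc]
              group
        exact (mul_inv_eq_iff_eq_mul.1 hconj).symm
      · have ea : u * g * u⁻¹ = c := rfl
        have eg : u * c * u⁻¹ = g := by
          rw [hc, hui]; calc u * (u * g * u) * u = (u * u) * g * (u * u) := by group
            _ = g := by rw [F.rot.sq]; group
        have ed : u * a * u⁻¹ = d := by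
          rw [ha, hd, hv', show w * u = u * w from F.com]; clear_value u; group
        have ec : u * d * u⁻¹ = a := by
          rw [← ed, hui]; calc u * (u * a * u) * u = (u * u) * a * (u * u) := by group
            _ = a := by rw [F.rot.sq]; group
        have hconj : u * (g * a * c * d) * u⁻¹ = g * a * c * d := by
          calc u * (g * a * c * d) * u⁻¹ = (u * g * u⁻¹) * (u * a * u⁻¹) * (u * c * u⁻¹) * (u * d * u⁻¹) := by group
            _ = c * d * g * a := by rw [ea, eg, ed, ec]
            _ = g * a * c * d := by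
              rw [mul_assoc (c * d), hab (c * d) (A.mul_mem (hinvA g hg u) (hinvA g hg v)) (g * a)
                (A.mul_mem hg (hinvA g hg w))]
              group
        exact (mul_inv_eq_iff_eq_mul.1 hconj).symm
    have hgg : g * g ∈ C := by
      rw [e1] at hm
      exact (C.mul_mem_cancel_right hP).1 hm
    obtain ⟨k, hk⟩ := hpow g hg
    obtain ⟨j, hj⟩ : Odd (p ^ k) := (hp.odd_of_ne_two hp2).pow
    have hgC : g ∈ C := by
      have h := C.pow_mem hgg (j + 1)
      rwa [← pow_two, ← pow_mul, show 2 * (j + 1) = p ^ k + 1 by omega, pow_succ, hk, one_mul] at h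
    rw [Subgroup.mem_centralizer_iff] at hgC
    exact ⟨(hgC w (by simp)).symm, (hgC u (by simp)).symm⟩
  rw [eq_bot_iff]
  intro g hg
  have hcent := S.central_of_normal A (fun a ha => cb a ha (hall a ha).1 (hall a ha).2) g hg
  rcases S.scalar_of_central hcent with h | h
  · exact Subgroup.mem_bot.2 (S.faith' h)
  · exfalso
    obtain ⟨k, hk⟩ := hpow g hg
    obtain ⟨j, hj⟩ : Odd (p ^ k) := (hp.odd_of_ne_two hp2).pow
    have heven : ∀ n : ℕ, ∀ v, σ ((g * g) ^ n) v = v := by
      intro n
      induction n with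
      | zero => intro v; rw [pow_zero, map_one]; rfl
      | succ n ih => intro v; rw [pow_succ, sigma_mul, sigma_mul, h, h, neg_neg, ih]
    have hne : σ g e = e := by
      calc σ g e = σ g (σ ((g * g) ^ j) e) := by rw [heven]
        _ = σ (g ^ (p ^ k)) e := by rw [← sigma_mul, hj, ← pow_two, ← pow_mul, ← pow_succ']
        _ = e := by rw [hk, map_one]; rfl
    rw [h] at hne
    exact neg_ne_self L.ne hne

end Setting

end Cfsg.Agent.JordanThree
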