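/-
A group of permutations of order prime to three normalised by a three-cycle and generated by its
commutators with it.
-/
import Mathlib

set_option autoImplicit false

namespace Cfsg.Agent.JordanThree

open Equiv

/-- In the symmetric group on five letters two three-cycles meeting in one letter give an element
of order three from `c' c⁻¹` and its conjugate by `c`. -/
theorem five_words :
    let c : Perm (Fin 5) := swap 0 1 * swap 1 2
    let c' : Perm (Fin 5) := swap 0 3 * swap 3 4
    let h := c' * c⁻¹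
    let g := c * h * c⁻¹
    ∃ w ∈ [h * g, h * g⁻¹, h * h * g, h * g * g, h * h * g * g, h * g * h, g * h * h * g,
      h * h * g⁻¹, h * g⁻¹ * g⁻¹], w ^ 3 = 1 ∧ w ≠ 1 := by
  decide +kernel

theorem words_mem {M : Type*} [Group M] (L : Subgroup M) {h g w : M} (hh : h ∈ L) (hg : g ∈ L)
    (hw : w ∈ [h * g, h * g⁻¹, h * h * g, h * g * g, h * h * g * g, h * g * h, g * h * h * g,
      h * h * g⁻¹, h * g⁻¹ * g⁻¹]) : w ∈ L := by
  simp only [List.mem_cons, List.not_mem_nil, or_false] at hw
  rcases hw with rfl | rfl | rfl | rfl | rfl | rfl | rfl | rfl | rfl <;>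
    repeat' first | assumption | apply L.mul_mem | apply L.inv_mem

/-- Four letters: the even involutions without fixed letters, and the identity. -/
def InKlein {α : Type*} (k : Perm α) : Prop := (∀ x, k (k x) = x) ∧ (k = 1 ∨ ∀ x, k x ≠ x)

theorem four_klein :
    let c : Perm (Fin 4) := swap 0 1 * swap 1 2
    ∀ k : Perm (Fin 4), (k * c * k⁻¹ * c⁻¹) ^ 3 ≠ 1 ∨ k * c * k⁻¹ * c⁻¹ = 1 →
      InKlein (k * c * k⁻¹ * c⁻¹) := by
  unfold InKlein
  decide +kernel

theorem four_closed : ∀ a b : Perm (Fin 4), InKlein a → InKlein b → InKlein (a * b) := by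
  unfold InKlein
  decide +kernel

theorem klein_sign : ∀ a : Perm (Fin 4), InKlein a → ∀ f : Fin 4 → ZMod 3, (∀ i, f i ≠ 0) →
    ((Equiv.Perm.sign a : ℤ) : ZMod 3) * ∏ i, f i = 1 → a ≠ 1 →
      ∀ i j, f i * f (a i) = f j * f (a j) := by
  unfold InKlein
  decide +kernel

variable {Ω : Type*} [Finite Ω]

/-- The set-up: `c` is the three-cycle `(x₁ x₂ x₃)` normalising `K`. -/
structure CycleSetting (K : Subgroup (Perm Ω)) (c : Perm Ω) (x : Fin 3 → Ω) : Prop where
  inj : Function.Injective x
  map : ∀ i, c (x i) = x (i + 1)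
  fix : ∀ y, (∀ i, y ≠ x i) → c y = y
  norm : ∀ k ∈ K, c * k * c⁻¹ ∈ K
  cop : ¬ 3 ∣ Nat.card K
  gen : K ≤ Subgroup.closure {g | ∃ k ∈ K, k * c * k⁻¹ * c⁻¹ = g}
  trans : ∀ y, ∃ k ∈ K, ∃ i, k (x i) = y

theorem CycleSetting.comm_mem {K : Subgroup (Perm Ω)} {c : Perm Ω} {x : Fin 3 → Ω}
    (S : CycleSetting K c x) {k : Perm Ω} (hk : k ∈ K) : k * c * k⁻¹ * c⁻¹ ∈ K := by
  rw [show k * c * k⁻¹ * c⁻¹ = k * (c * k⁻¹ * c⁻¹) by group]
  exact K.mul_mem hk (S.norm _ (K.inv_mem hk))

theorem CycleSetting.no_order_three {K : Subgroup (Perm Ω)} {c : Perm Ω} {x : Fin 3 → Ω}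
    (S : CycleSetting K c x) {g : Perm Ω} (hg : g ∈ K) (h3 : g ^ 3 = 1) : g = 1 := by
  by_contra h1
  have : Fact (Nat.Prime 3) := ⟨Nat.prime_three⟩
  have ho : orderOf g = 3 := orderOf_eq_prime h3 h1
  exact S.cop (ho ▸ (Subgroup.orderOf_mk g hg ▸ orderOf_dvd_natCard (⟨g, hg⟩ : K)))

/-- Either three letters and a trivial group, or four letters and the regular four-group. -/
theorem CycleSetting.result {K : Subgroup (Perm Ω)} {c : Perm Ω} {x : Fin 3 → Ω}
    (S : CycleSetting K c x) :
    (Nat.card Ω = 3 ∧ K = ⊥) ∨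
      (Nat.card Ω = 4 ∧ (∀ k ∈ K, InKlein k) ∧ ∀ y z, ∃ k ∈ K, k y = z) := by
  classical
  have : Fintype Ω := Fintype.ofFinite Ω
  have hout : ∀ y, (∀ i, y ≠ x i) → c⁻¹ y = y := fun y hy => by
    conv_lhs => rw [← S.fix y hy]
    exact c.symm_apply_apply y
  by_cases h3 : ∀ y, ∃ i, x i = y
  · left
    have hx : Function.Bijective x := ⟨S.inj, h3⟩
    have hcard : Nat.card Ω = 3 := by
      rw [← Nat.card_congr (Equiv.ofBijective x hx), Nat.card_fin]
    refine ⟨hcard, ?_⟩
    have hd : Nat.card K ∣ 6 := by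
      have := Subgroup.card_subgroup_dvd_card K
      rwa [Nat.card_perm, hcard, show Nat.factorial 3 = 6 from rfl] at this
    have hle : Nat.card K ≤ 2 := by
      have h1 := Nat.le_of_dvd (by norm_num) hd
      have h2 := S.cop
      interval_cases Nat.card K <;> omega
    have hcomm : ∀ k ∈ K, k * c * k⁻¹ * c⁻¹ = 1 := by
      intro k hk
      by_cases hk1 : k = 1
      · rw [hk1]; group
      have heq : c * k * c⁻¹ = k := by
        have hne : c * k * c⁻¹ ≠ 1 := fun h => hk1 (by
          calc k = c⁻¹ * (c * k * c⁻¹) * c := by group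
            _ = 1 := by rw [h]; group)
        by_contra hne2
        have h3' : 3 ≤ Nat.card K := by
          let f : Fin 3 → K := ![1, ⟨k, hk⟩, ⟨_, S.norm k hk⟩]
          have hf : Function.Injective f := by
            intro i j h
            have hv := congrArg Subtype.val h
            have e1 : k ≠ 1 := hk1
            fin_cases i <;> fin_cases j <;>
              first
                | rfl
                | exact absurd hv e1
                | exact absurd hv.symm e1
                | exact absurd hv hne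
                | exact absurd hv.symm hne
                | exact absurd hv hne2
                | exact absurd hv.symm hne2
          simpa using Nat.card_le_card_of_injective f hf
        omega
      calc k * c * k⁻¹ * c⁻¹ = k * (c * k * c⁻¹)⁻¹ := by group
        _ = 1 := by rw [heq, mul_inv_cancel]
    rw [eq_bot_iff]
    refine S.gen.trans ((Subgroup.closure_le _).2 ?_)
    rintro _ ⟨k, hk, rfl⟩
    exact Subgroup.mem_bot.2 (hcomm k hk)
  right
  push Not at h3
  obtain ⟨y₀, hy₀⟩ := h3
  have hy₀' : ∀ i, y₀ ≠ x i := fun i h => hy₀ i h.symm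
  -- transitivity
  have hxo : ∀ i, ∃ k ∈ K, k (x i) = y₀ := by
    obtain ⟨k, hk, j, hkj⟩ := S.trans y₀
    have hnext : ∀ i, (∃ k ∈ K, k (x i) = y₀) → ∃ k ∈ K, k (x (i + 1)) = y₀ := by
      rintro i ⟨k, hk, h⟩
      refine ⟨c * k * c⁻¹, S.norm k hk, ?_⟩
      rw [Perm.mul_apply, Perm.mul_apply, ← S.map i, show c⁻¹ (c (x i)) = x i from c.symm_apply_apply _, h]
      exact S.fix y₀ hy₀'
    intro i
    have h0 : ∃ k ∈ K, k (x j) = y₀ := ⟨k, hk, hkj⟩
    have key : ∀ i j : Fin 3, i = j ∨ i = j + 1 ∨ i = j + 1 + 1 := by decide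
    rcases key i j with rfl | rfl | rfl
    · exact h0
    · exact hnext _ h0
    · exact hnext _ (hnext _ h0)
  have htr : ∀ y z, ∃ k ∈ K, k y = z := by
    have h0 : ∀ y, ∃ k ∈ K, k y = y₀ := fun y => by
      obtain ⟨k, hk, i, rfl⟩ := S.trans y
      obtain ⟨l, hl, hl'⟩ := hxo i
      exact ⟨l * k⁻¹, K.mul_mem hl (K.inv_mem hk), by
        rw [Perm.mul_apply, show k⁻¹ (k (x i)) = x i from k.symm_apply_apply _, hl']⟩
    intro y z
    obtain ⟨k, hk, h⟩ := h0 y
    obtain ⟨l, hl, h'⟩ := h0 z
    refine ⟨l⁻¹ * k, K.mul_mem (K.inv_mem hl) hk, ?_⟩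
    rw [Perm.mul_apply, h, ← h']
    exact l.symm_apply_apply z
  -- every image of the triple meets it at least twice
  have hmeet : ∀ k ∈ K, ∃ i j, i ≠ j ∧ (∃ a, k (x i) = x a) ∧ ∃ a, k (x j) = x a := by
    intro k hk
    set c' := k * c * k⁻¹ with hc'
    have hh : c' * c⁻¹ ∈ K := S.comm_mem hk
    have hc'map : ∀ i, c' (k (x i)) = k (x (i + 1)) := fun i => by
      rw [hc', Perm.mul_apply, Perm.mul_apply, show k⁻¹ (k (x i)) = x i from k.symm_apply_apply _, S.map]
    have hc'fix : ∀ y, (∀ i, y ≠ k (x i)) → c' y = y := fun y hy => by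
      rw [hc', Perm.mul_apply, Perm.mul_apply, S.fix (k⁻¹ y) (fun i h => hy i (by
        rw [← h]; exact (k.apply_symm_apply y).symm))]
      exact k.apply_symm_apply y
    by_contra hcon
    push Not at hcon
    by_cases h0 : ∀ i a, k (x i) ≠ x a
    · -- disjoint: an element of order three
      have hcomm : Commute c' c := by
        refine Equiv.Perm.Disjoint.commute fun y => ?_
        by_cases hy : ∀ i, y ≠ x i
        · exact Or.inr (S.fix y hy)
        · push Not at hy
          obtain ⟨i, rfl⟩ := hy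
          exact Or.inl (hc'fix _ fun j h => h0 j i h.symm)
      have hc3 : c ^ 3 = 1 := by
        ext y
        by_cases hy : ∀ i, y ≠ x i
        · simp [pow_succ, S.fix y hy]
        · push Not at hy
          obtain ⟨i, rfl⟩ := hy
          simp [pow_succ, S.map, add_assoc]
      have hc'3 : c' ^ 3 = 1 := by rw [hc', conj_pow, hc3]; group
      have := S.no_order_three hh (by rw [hcomm.inv_right.mul_pow, hc'3, inv_pow, hc3, inv_one, one_mul])
      rw [mul_inv_eq_one] at this
      have := congrArg (fun f : Perm Ω => f (x 0)) this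
      simp only [S.map] at this
      rw [hc'fix _ (fun j h => h0 j 0 h.symm)] at this
      exact absurd (S.inj this) (by decide)
    · -- meeting in one letter
      push Not at h0
      obtain ⟨i, a, hia⟩ := h0
      let emb : Fin 5 → Ω := ![x a, x (a + 1), x (a + 1 + 1), k (x (i + 1)), k (x (i + 1 + 1))]
      have hout1 : ∀ j, j ≠ i → ∀ a', k (x j) ≠ x a' := fun j hj a' => hcon i j (Ne.symm hj) ⟨a, hia⟩ a'
      have hi1 : i + 1 ≠ i := (by decide : ∀ i : Fin 3, i + 1 ≠ i) i
      have hi2 : i + 1 + 1 ≠ i := (by decide : ∀ i : Fin 3, i + 1 + 1 ≠ i) i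
      have hi12 : i + 1 + 1 ≠ i + 1 := (by decide : ∀ i : Fin 3, i + 1 + 1 ≠ i + 1) i
      have ha : a + 1 ≠ a ∧ a + 1 + 1 ≠ a ∧ a + 1 + 1 ≠ a + 1 ∧ a + 1 + 1 + 1 = a ∧ i + 1 + 1 + 1 = i :=
        ⟨(by decide : ∀ i : Fin 3, i + 1 ≠ i) a, (by decide : ∀ i : Fin 3, i + 1 + 1 ≠ i) a,
          (by decide : ∀ i : Fin 3, i + 1 + 1 ≠ i + 1) a, (by decide : ∀ i : Fin 3, i + 1 + 1 + 1 = i) a,
          (by decide : ∀ i : Fin 3, i + 1 + 1 + 1 = i) i⟩
      have hemb : Function.Injective emb := by
        intro p q h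
        fin_cases p <;> fin_cases q <;>
          first
            | rfl
            | (exfalso; simp [emb] at h; done)
            | (exfalso
               simp [emb, S.inj.eq_iff] at h
               all_goals first
                | exact ha.1 h | exact ha.1 h.symm | exact ha.2.1 h | exact ha.2.1 h.symm
                | exact ha.2.2.1 h | exact ha.2.2.1 h.symm
                | exact hi12 h | exact hi12 h.symm
                | exact hout1 _ hi1 _ h | exact hout1 _ hi1 _ h.symm
                | exact hout1 _ hi2 _ h | exact hout1 _ hi2 _ h.symm)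
      let E : Fin 5 ↪ Ω := ⟨emb, hemb⟩
      let φ : Perm (Fin 5) →* Perm Ω := Equiv.Perm.viaEmbeddingHom E
      have hc : φ (swap 0 1 * swap 1 2) = c := by
        ext y
        by_cases hy : ∃ p, E p = y
        · obtain ⟨p, rfl⟩ := hy
          rw [Equiv.Perm.viaEmbeddingHom_apply, Equiv.Perm.viaEmbedding_apply]
          have hf1 : c (k (x (i + 1))) = k (x (i + 1)) := S.fix _ (hout1 _ hi1)
          have hf2 : c (k (x (i + 1 + 1))) = k (x (i + 1 + 1)) := S.fix _ (hout1 _ hi2)
          fin_cases p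
          · exact (S.map a).symm
          · exact (S.map (a + 1)).symm
          · exact (congrArg x ha.2.2.2.1.symm).trans (S.map (a + 1 + 1)).symm
          · exact hf1.symm
          · exact hf2.symm
        · rw [Equiv.Perm.viaEmbeddingHom_apply, Equiv.Perm.viaEmbedding_apply_of_notMem _ _ _ (by simpa using hy)]
          symm
          apply S.fix
          intro j hj
          apply hy
          rcases (by decide : ∀ a j : Fin 3, j = a ∨ j = a + 1 ∨ j = a + 1 + 1) a j with rfl | rfl | rfl
          · exact ⟨0, hj.symm⟩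
          · exact ⟨1, hj.symm⟩
          · exact ⟨2, hj.symm⟩
      have hcc : φ (swap 0 3 * swap 3 4) = c' := by
        ext y
        by_cases hy : ∃ p, E p = y
        · obtain ⟨p, rfl⟩ := hy
          rw [Equiv.Perm.viaEmbeddingHom_apply, Equiv.Perm.viaEmbedding_apply]
          have hf1 : ∀ b, b ≠ a → c' (x b) = x b := fun b hb => hc'fix _ fun j h => by
            by_cases hj : j = i
            · subst hj; rw [hia] at h; exact hb (S.inj h)
            · exact hout1 j hj b h.symm
          fin_cases p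
          · show k (x (i + 1)) = c' (x a)
            rw [← hia, hc'map]
          · exact (hf1 _ ha.1).symm
          · exact (hf1 _ ha.2.1).symm
          · exact (hc'map (i + 1)).symm
          · show x a = c' (k (x (i + 1 + 1)))
            rw [hc'map, ha.2.2.2.2, hia]
        · rw [Equiv.Perm.viaEmbeddingHom_apply, Equiv.Perm.viaEmbedding_apply_of_notMem _ _ _ (by simpa using hy)]
          symm
          apply hc'fix
          intro j hj
          apply hy
          rcases (by decide : ∀ i j : Fin 3, j = i ∨ j = i + 1 ∨ j = i + 1 + 1) i j with rfl | rfl | rfl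
          · exact ⟨0, by rw [hj, hia]; rfl⟩
          · exact ⟨3, hj.symm⟩
          · exact ⟨4, hj.symm⟩
      obtain ⟨w, hw, hw3, hw1⟩ := five_words
      apply hw1
      apply Equiv.Perm.viaEmbeddingHom_injective E
      rw [map_one]
      have hg : c * (c' * c⁻¹) * c⁻¹ ∈ K := S.norm _ hh
      refine S.no_order_three ?_ (by rw [← map_pow, hw3, map_one])
      have e1 : φ (swap 0 3 * swap 3 4 * (swap 0 1 * swap 1 2)⁻¹) = c' * c⁻¹ := by
        rw [map_mul, map_inv, hc, hcc]
      have e2 : φ ((swap 0 1 * swap 1 2) * (swap 0 3 * swap 3 4 * (swap 0 1 * swap 1 2)⁻¹) *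
          (swap 0 1 * swap 1 2)⁻¹) = c * (c' * c⁻¹) * c⁻¹ := by
        rw [map_mul, map_mul, map_inv, e1, hc]
      show w ∈ K.comap φ
      exact words_mem _ (Subgroup.mem_comap.2 (e1.symm ▸ hh)) (Subgroup.mem_comap.2 (e2.symm ▸ hg)) hw
  -- so there are four letters
  have hcard : Nat.card Ω = 4 := by
    have hge : 4 ≤ Nat.card Ω := by
      have hf : Function.Injective (Fin.cons y₀ x : Fin 4 → Ω) :=
        Fin.cons_injective_iff.2 ⟨fun ⟨i, hi⟩ => hy₀' i hi.symm, S.inj⟩
      simpa using Nat.card_le_card_of_injective _ hf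
    by_contra hne
    have h5 : 5 ≤ Nat.card Ω := by omega
    obtain ⟨k₁, hk₁, hk₁y⟩ := hxo 0
    -- members of an image of the triple
    let T : Perm Ω → Finset Ω := fun k => Finset.univ.image fun i => k (x i)
    have hT3 : ∀ k, (T k).card = 3 := fun k => by
      show (Finset.univ.image fun i => k (x i)).card = 3
      rw [Finset.card_image_of_injective _ (show Function.Injective fun i => k (x i) from k.injective.comp S.inj)]; rfl
    have hmeet' : ∀ k ∈ K, ∀ l ∈ K, 2 ≤ (T k ∩ T l).card := by
      intro k hk l hl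
      obtain ⟨i, j, hij, ⟨a, ha⟩, ⟨b, hb⟩⟩ := hmeet (l⁻¹ * k) (K.mul_mem (K.inv_mem hl) hk)
      have key : ∀ i a, (l⁻¹ * k) (x i) = x a → k (x i) ∈ T k ∩ T l := fun i a ha => by
        refine Finset.mem_inter.2 ⟨Finset.mem_image.2 ⟨i, Finset.mem_univ _, rfl⟩,
          Finset.mem_image.2 ⟨a, Finset.mem_univ _, ?_⟩⟩
        rw [← ha, Perm.mul_apply]
        exact l.apply_symm_apply _
      refine le_trans ?_ (Finset.card_le_card (Finset.insert_subset_iff.2 ⟨key i a ha,
        Finset.singleton_subset_iff.2 (key j b hb)⟩))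
      rw [Finset.card_pair fun h => hij (S.inj (k.injective h))]
    set A := T 1 with hA
    set B := T k₁ with hB
    have hA3 : A.card = 3 := hT3 1
    have hB3 : B.card = 3 := hT3 k₁
    have hyA : y₀ ∉ A := by
      intro h
      obtain ⟨i, -, hi⟩ := Finset.mem_image.1 h
      exact hy₀' i hi.symm
    have hyB : y₀ ∈ B := Finset.mem_image.2 ⟨0, Finset.mem_univ _, hk₁y⟩
    have hAB : (A ∩ B).card = 2 := by
      have h2 := hmeet' 1 K.one_mem k₁ hk₁
      have h3 : (A ∩ B).card < 3 := by
        rw [← hB3]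
        refine Finset.card_lt_card ⟨Finset.inter_subset_right, fun h => hyA ?_⟩
        exact (Finset.mem_inter.1 (h hyB)).1
      change 2 ≤ (A ∩ B).card at h2
      omega
    -- a fifth letter
    obtain ⟨z, hz⟩ : ∃ z, z ∉ A ∪ B := by
      by_contra hall
      push Not at hall
      have h1 : (A ∪ B).card = Fintype.card Ω := by
        rw [Finset.eq_univ_iff_forall.2 hall, Finset.card_univ]
      have h2 := Finset.card_union_add_card_inter A B
      rw [Nat.card_eq_fintype_card] at h5
      omega
    obtain ⟨k₂, hk₂, hk₂z⟩ := htr (x 0) z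
    set C := T k₂ with hC
    have hzC : z ∈ C := Finset.mem_image.2 ⟨0, Finset.mem_univ _, hk₂z⟩
    have hC3 : C.card = 3 := hT3 k₂
    have hzA : z ∉ A := fun h => hz (Finset.mem_union_left _ h)
    have hzB : z ∉ B := fun h => hz (Finset.mem_union_right _ h)
    have hsubA : C.erase z ⊆ A := by
      have h2 := hmeet' k₂ hk₂ 1 K.one_mem
      have hle : (C ∩ A) ⊆ C.erase z := fun y hy => by
        rw [Finset.mem_inter] at hy
        exact Finset.mem_erase.2 ⟨fun h => hzA (h ▸ hy.2), hy.1⟩
      have := Finset.eq_of_subset_of_card_le hle (by rw [Finset.card_erase_of_mem hzC, hC3]; exact h2)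
      exact this ▸ Finset.inter_subset_right
    have hsubB : C.erase z ⊆ B := by
      have h2 := hmeet' k₂ hk₂ k₁ hk₁
      have hle : (C ∩ B) ⊆ C.erase z := fun y hy => by
        rw [Finset.mem_inter] at hy
        exact Finset.mem_erase.2 ⟨fun h => hzB (h ▸ hy.2), hy.1⟩
      have := Finset.eq_of_subset_of_card_le hle (by rw [Finset.card_erase_of_mem hzC, hC3]; exact h2)
      exact this ▸ Finset.inter_subset_right
    have hCz : C.erase z = A ∩ B :=
      Finset.eq_of_subset_of_card_le (Finset.subset_inter hsubA hsubB)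
        (by rw [Finset.card_erase_of_mem hzC, hC3, hAB])
    obtain ⟨a, ha⟩ := Finset.card_pos.1 (show 0 < (A ∩ B).card by omega)
    have haC : a ∈ C := Finset.mem_of_mem_erase (hCz ▸ ha)
    obtain ⟨haA, haB⟩ := Finset.mem_inter.1 ha
    have hall : ∀ k ∈ K, a ∈ T k := by
      intro k hk
      by_contra hak
      -- the other three letters would all lie in the image
      have e : ∀ U : Finset Ω, U.card = 3 → a ∈ U → 2 ≤ (T k ∩ U).card → U.erase a ⊆ T k := by
        intro U hU haU h2 y hy
        have hle : (T k ∩ U) ⊆ U.erase a := fun y hy => by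
          rw [Finset.mem_inter] at hy
          exact Finset.mem_erase.2 ⟨fun h => hak (h ▸ hy.1), hy.2⟩
        have := Finset.eq_of_subset_of_card_le hle (by rw [Finset.card_erase_of_mem haU, hU]; exact h2)
        exact (Finset.mem_inter.1 (this ▸ hy)).1
      have eA := e A hA3 haA (hmeet' k hk 1 K.one_mem)
      have eB := e B hB3 haB (hmeet' k hk k₁ hk₁)
      have eC := e C hC3 haC (hmeet' k hk k₂ hk₂)
      have hsub : (A ∪ B ∪ C).erase a ⊆ T k := by
        intro y hy
        rw [Finset.mem_erase, Finset.mem_union, Finset.mem_union] at hy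
        rcases hy.2 with (h | h) | h
        · exact eA (Finset.mem_erase.2 ⟨hy.1, h⟩)
        · exact eB (Finset.mem_erase.2 ⟨hy.1, h⟩)
        · exact eC (Finset.mem_erase.2 ⟨hy.1, h⟩)
      have h1 := Finset.card_le_card hsub
      have h2 : 5 ≤ (A ∪ B ∪ C).card := by
        have hins : insert z (A ∪ B) ⊆ A ∪ B ∪ C :=
          Finset.insert_subset_iff.2 ⟨Finset.mem_union_right _ hzC, Finset.subset_union_left⟩
        have := Finset.card_le_card hins
        rw [Finset.card_insert_of_notMem hz] at this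
        have h3 := Finset.card_union_add_card_inter A B
        omega
      rw [Finset.card_erase_of_mem (Finset.mem_union_left _ (Finset.mem_union_left _ haA)), hT3] at h1
      omega
    obtain ⟨k, hk, hka⟩ := htr a y₀
    obtain ⟨i, -, hi⟩ := Finset.mem_image.1 (hall k⁻¹ (K.inv_mem hk))
    apply hy₀' i
    rw [← hka, ← hi]
    exact k.apply_symm_apply _
  refine ⟨hcard, ?_, htr⟩
  -- transport to `Fin 4`
  let g : Fin 4 → Ω := Fin.snoc x y₀
  have hg : Function.Bijective g := by
    refine (Nat.bijective_iff_injective_and_card g).2 ⟨?_, by rw [Nat.card_fin, hcard]⟩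
    exact Fin.snoc_injective_iff.2 ⟨S.inj, fun ⟨i, hi⟩ => hy₀' i hi.symm⟩
  let e : Fin 4 ≃ Ω := Equiv.ofBijective g hg
  let ψ : Perm Ω ≃* Perm (Fin 4) := e.symm.permCongrHom
  have hψ : ∀ k p, e (ψ k p) = k (e p) := fun k p => by
    simp [ψ, Equiv.permCongrHom]
  have hψc : ψ c = swap 0 1 * swap 1 2 := by
    ext p
    apply congrArg Fin.val
    apply e.injective
    rw [hψ]
    have h0 : e 0 = x 0 := rfl
    have h1 : e 1 = x 1 := rfl
    have h2 : e 2 = x 2 := rfl
    have h3' : e 3 = y₀ := rfl
    fin_cases p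
    · show c (e 0) = e 1; rw [h0, h1, S.map]; rfl
    · show c (e 1) = e 2; rw [h1, h2, S.map]; rfl
    · show c (e 2) = e 0; rw [h2, h0, S.map]; rfl
    · show c (e 3) = e 3; rw [h3', S.fix y₀ hy₀']
  have hK : ∀ k ∈ K, InKlein (ψ k) := by
    intro k hk
    have hk' := S.gen hk
    induction hk' using Subgroup.closure_induction with
    | mem g hg =>
      obtain ⟨l, hl, rfl⟩ := hg
      have := four_klein (ψ l)
      rw [← hψc, ← map_inv, ← map_inv, ← map_mul, ← map_mul, ← map_mul, ← map_pow] at this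
      refine this ?_
      by_cases h : (l * c * l⁻¹ * c⁻¹) ^ 3 = 1
      · right; rw [S.no_order_three (S.comm_mem hl) h, map_one]
      · left; intro h'; exact h (ψ.injective (h'.trans (map_one ψ).symm))
    | one => rw [map_one]; exact ⟨fun _ => rfl, Or.inl rfl⟩
    | mul a b ha hb iha ihb =>
      have hle : Subgroup.closure {g | ∃ k ∈ K, k * c * k⁻¹ * c⁻¹ = g} ≤ K :=
        (Subgroup.closure_le _).2 fun g ⟨l, hl, e⟩ => e ▸ S.comm_mem hl
      rw [map_mul]
      exact four_closed _ _ (iha (hle ha)) (ihb (hle hb))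
    | inv a ha iha =>
      have hle : Subgroup.closure {g | ∃ k ∈ K, k * c * k⁻¹ * c⁻¹ = g} ≤ K :=
        (Subgroup.closure_le _).2 fun g ⟨l, hl, e⟩ => e ▸ S.comm_mem hl
      obtain ⟨h1, h2⟩ := iha (hle ha)
      rw [map_inv, inv_eq_of_mul_eq_one_right (a := ψ a) (Equiv.ext h1)]
      exact ⟨h1, h2⟩
  intro k hk
  obtain ⟨h1, h2⟩ := hK k hk
  refine ⟨fun y => ?_, ?_⟩
  · obtain ⟨p, rfl⟩ := e.surjective y
    rw [← hψ, ← hψ, h1]
  · rcases h2 with h2 | h2
    · exact Or.inl (ψ.injective (h2.trans (map_one ψ).symm))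
    · right
      intro y
      obtain ⟨p, rfl⟩ := e.surjective y
      rw [← hψ]
      exact fun h => h2 p (e.injective h)

end Cfsg.Agent.JordanThree
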