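/-
The monomial case: a normal elementary abelian subgroup containing a moved four-group.
-/
import Cfsg.Agent.Lib.JordanThree.Odd
import Cfsg.Agent.Lib.JordanThree.ThreeCycle

set_option autoImplicit false

namespace Cfsg.Agent.JordanThree

open scoped commutatorElement

local notation "F₃" => ZMod 3

/-- The data recognising an extraspecial subgroup of order 32 with an elementary subgroup of order 8. -/
def ExtraData {H : Type*} [Group H] (R : Subgroup H) : Prop :=
  Nat.card R = 32 ∧ (∃ z ∈ R, z * z = 1 ∧ z ≠ 1 ∧ (∀ g ∈ R, g * g = 1 ∨ g * g = z) ∧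
    (∀ g ∈ R, g * z = z * g) ∧ (∀ g ∈ R, (∀ k ∈ R, g * k = k * g) → g = 1 ∨ g = z)) ∧
  ∃ A : Subgroup H, A ≤ R ∧ (∀ x ∈ A, ∀ y ∈ A, x * y = y * x) ∧ (∀ x ∈ A, x * x = 1) ∧ Nat.card A = 8

/-- An elementary abelian four-group. -/
def FourData {H : Type*} [Group H] (R : Subgroup H) : Prop :=
  Nat.card R = 4 ∧ (∀ x ∈ R, ∀ y ∈ R, x * y = y * x) ∧ ∀ x ∈ R, x * x = 1

variable {H V : Type*} [Group H] [AddCommGroup V] [Module (ZMod 3) V] [Finite V]
variable {σ : Representation (ZMod 3) H V} {R : Subgroup H} {b w : H}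

theorem unit_cases : ∀ s : F₃, s ≠ 0 → s = 1 ∨ s = -1 := by decide

/-- The lines conjugate to the first line of the four-group. -/
abbrev Pt (σ : Representation (ZMod 3) H V) (e : V) : Type _ :=
  {L : Submodule F₃ V // ∃ h : H, L = Submodule.span F₃ {σ h e}}

instance {M : Type*} [AddCommGroup M] [Module F₃ M] [Finite M] : Finite (Submodule F₃ M) :=
  Finite.of_injective (fun L => (L : Set M)) SetLike.coe_injective

/-- The action on the lines. -/
noncomputable def ptHom (σ : Representation (ZMod 3) H V) (e : V) : H →* Equiv.Perm (Pt σ e) where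
  toFun h :=
    { toFun := fun P => ⟨P.1.map (σ h), by
        obtain ⟨g, hg⟩ := P.2
        exact ⟨h * g, by rw [hg, Submodule.map_span, Set.image_singleton, sigma_mul]⟩⟩
      invFun := fun P => ⟨P.1.map (σ h⁻¹), by
        obtain ⟨g, hg⟩ := P.2
        exact ⟨h⁻¹ * g, by rw [hg, Submodule.map_span, Set.image_singleton, sigma_mul]⟩⟩
      left_inv := fun P => Subtype.ext (by
        show (P.1.map (σ h)).map (σ h⁻¹) = P.1
        rw [← Submodule.map_comp, show (σ h⁻¹ : V →ₗ[F₃] V) ∘ₗ σ h = LinearMap.id from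
          LinearMap.ext fun v => sigma_inv_self h v, Submodule.map_id])
      right_inv := fun P => Subtype.ext (by
        show (P.1.map (σ h⁻¹)).map (σ h) = P.1
        rw [← Submodule.map_comp, show (σ h : V →ₗ[F₃] V) ∘ₗ σ h⁻¹ = LinearMap.id from
          LinearMap.ext fun v => sigma_self_inv h v, Submodule.map_id]) }
  map_one' := by
    ext P : 2
    show P.1.map (σ (1 : H)) = P.1
    rw [map_one]; exact Submodule.map_id _
  map_mul' h g := by
    ext P : 2
    show P.1.map (σ (h * g)) = (P.1.map (σ g)).map (σ h)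
    rw [← Submodule.map_comp, map_mul]; rfl

/-- A vector on a line. -/
noncomputable def vec (σ : Representation (ZMod 3) H V) (e : V) (P : Pt σ e) : V := σ P.2.choose e

theorem span_vec (e : V) (P : Pt σ e) : P.1 = Submodule.span F₃ {vec σ e P} := P.2.choose_spec

variable [Finite H]

set_option maxHeartbeats 1000000 in
/-- The monomial case. -/
theorem Setting.monomial (S : Setting σ R b) (F : Four b w) (A : Subgroup H) [A.Normal] (hAR : A ≤ R)
    (hab : ∀ x ∈ A, ∀ y ∈ A, x * y = y * x) (hsq : ∀ x ∈ A, x * x = 1) (hwA : w ∈ A) :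
    FourData R ∨ ExtraData R := by
  classical
  obtain ⟨e, L⟩ := S.exists_lines F
  obtain ⟨e2w, e2u, e3w, e3u⟩ := L.eigen S F
  set u := b * w * b⁻¹ with hu
  have huA : u ∈ A := ‹A.Normal›.conj_mem w hwA b
  have hu' : u * u = 1 := F.rot.sq
  have : Finite (Pt σ e) := Subtype.finite
  have : Fintype (Pt σ e) := Fintype.ofFinite _
  set π := ptHom σ e with hπ
  set vv := vec σ e with hvv
  have hvne : ∀ P, vv P ≠ 0 := fun P h => L.ne (by
    rw [← sigma_inv_self (σ := σ) P.2.choose e]
    change vec σ e P = 0 at h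
    unfold vec at h
    rw [h, map_zero])
  -- a vector in a point
  have hpt : ∀ (P : Pt σ e) (g : H) (c : F₃), c ≠ 0 → vv P = c • σ g e →
      P.1 = Submodule.span F₃ {σ g e} := by
    intro P g c hc h
    rw [span_vec e P, show vec σ e P = c • σ g e from h]
    exact Submodule.span_singleton_smul_eq (IsUnit.mk0 c hc) _
  have mono : ∀ (h : H) (P : Pt σ e), ∃ c : F₃, c ≠ 0 ∧ σ h (vv P) = c • vv (π h P) := by
    intro h P
    have hm : σ h (vv P) ∈ (π h P).1 := ⟨vv P, by rw [span_vec e P]; exact Submodule.mem_span_singleton_self _, rfl⟩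
    rw [span_vec e (π h P), Submodule.mem_span_singleton] at hm
    obtain ⟨c, hc⟩ := hm
    refine ⟨c, fun h0 => hvne P ?_, hc.symm⟩
    rw [h0, zero_smul] at hc
    rw [← sigma_inv_self (σ := σ) h (vv P), ← hc, map_zero]
  choose f hf0 hf using mono
  -- elements of `A` act by scalars on every line
  have line' : ∀ (g : H) (x : V), σ (g * w * g⁻¹) x = x → σ (g * u * g⁻¹) x = -x →
      ∃ c : F₃, c • σ g e = x := by
    intro g x h1 h2
    obtain ⟨c, hc⟩ := L.line (σ g⁻¹ x)
      (by rw [← sigma_mul, show w * g⁻¹ = g⁻¹ * (g * w * g⁻¹) by group, sigma_mul, h1])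
      (by rw [← hu, ← sigma_mul, show u * g⁻¹ = g⁻¹ * (g * u * g⁻¹) by group, sigma_mul, h2, map_neg])
    exact ⟨c, by rw [← map_smul, hc, sigma_self_inv]⟩
  have hchar : ∀ g : H, σ (g * w * g⁻¹) (σ g e) = σ g e ∧ σ (g * u * g⁻¹) (σ g e) = -σ g e := fun g =>
    ⟨by rw [sigma_mul, sigma_mul, sigma_inv_self, L.w_e],
      by rw [sigma_mul, sigma_mul, sigma_inv_self, hu, L.w2_e, map_neg]⟩
  have hAfix : ∀ a ∈ A, ∀ P, π a P = P := by
    intro a ha P
    set g := P.2.choose with hg
    have hc : ∀ y ∈ A, ∀ x, σ y (σ a x) = σ a (σ y x) := fun y hy x => by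
      rw [← sigma_mul, hab y hy a ha, sigma_mul]
    obtain ⟨c, hc'⟩ := line' g (σ a (σ g e))
      (by rw [hc _ (‹A.Normal›.conj_mem w hwA g), (hchar g).1])
      (by rw [hc _ (‹A.Normal›.conj_mem u huA g), (hchar g).2, map_neg])
    have h1 := hf a P
    have h2 : vv (π a P) = ((f a P)⁻¹ * c) • σ g e := by
      rw [← smul_smul, hc', show σ a (σ g e) = σ a (vv P) from rfl, h1, smul_smul,
        inv_mul_cancel₀ (hf0 a P), one_smul]
    apply Subtype.ext
    have hne : (f a P)⁻¹ * c ≠ 0 := fun h => hvne (π a P) (by rw [h2, h, zero_smul])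
    rw [hpt _ g _ hne h2]
    exact (span_vec e P).symm
  have hfA : ∀ a ∈ A, ∀ P, σ a (vv P) = f a P • vv P := fun a ha P => by
    conv_lhs => rw [hf, hAfix a ha]
  -- the character of `A` determines the line
  have hdet : ∀ (P Q : Pt σ e), σ (P.2.choose * w * P.2.choose⁻¹) (vv Q) = vv Q →
      σ (P.2.choose * u * P.2.choose⁻¹) (vv Q) = -vv Q → Q = P := by
    intro P Q h1 h2
    obtain ⟨c, hc⟩ := line' _ _ h1 h2
    have hne : c ≠ 0 := fun h => hvne Q (by rw [← hc, h, zero_smul])
    exact Subtype.ext ((hpt Q _ c hne hc.symm).trans (span_vec e P).symm)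
  let proj : Pt σ e → V →ₗ[F₃] V := fun P =>
    LinearMap.id + σ (P.2.choose * w * P.2.choose⁻¹) - σ (P.2.choose * u * P.2.choose⁻¹) -
      (σ (P.2.choose * w * P.2.choose⁻¹)).comp (σ (P.2.choose * u * P.2.choose⁻¹))
  have hproj : ∀ P Q, proj P (vv Q) = if Q = P then vv Q else 0 := by
    intro P Q
    set g := P.2.choose with hg
    have a1 := hfA _ (‹A.Normal›.conj_mem w hwA g) Q
    have a2 := hfA _ (‹A.Normal›.conj_mem u huA g) Q
    set s := f (g * w * g⁻¹) Q with hs
    set t := f (g * u * g⁻¹) Q with ht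
    have hval : proj P (vv Q) = ((1 + s) * (1 - t)) • vv Q := by
      simp only [proj, ← hg, LinearMap.sub_apply, LinearMap.add_apply, LinearMap.comp_apply,
        LinearMap.id_coe, id_eq, a1, a2, map_smul, smul_smul]
      rw [show (1 + s) * (1 - t) = 1 + s - t - t * s by ring, sub_smul, sub_smul, add_smul, one_smul]
    rw [hval]
    by_cases hQ : Q = P
    · rw [if_pos hQ]
      obtain ⟨b1, b2⟩ := hchar g
      rw [show σ g e = vv Q from hQ ▸ rfl] at b1 b2
      have hs1 : s = 1 := by
        rw [a1] at b1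
        have h : (s - 1) • vv Q = 0 := by rw [sub_smul, one_smul, b1, sub_self]
        exact sub_eq_zero.1 ((smul_eq_zero.1 h).resolve_right (hvne Q))
      have ht1 : t = -1 := by
        rw [a2] at b2
        have h : (t + 1) • vv Q = 0 := by rw [add_smul, one_smul, b2, neg_add_cancel]
        exact eq_neg_of_add_eq_zero_left ((smul_eq_zero.1 h).resolve_right (hvne Q))
      rw [hs1, ht1, show ((1 : F₃) + 1) * (1 - -1) = 1 by decide, one_smul]
    · rw [if_neg hQ]
      rcases unit_cases s (hf0 _ _) with h | h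
      · rcases unit_cases t (hf0 _ _) with h' | h'
        · rw [h', sub_self, mul_zero, zero_smul]
        · exfalso
          exact hQ (hdet P Q (by rw [← hg, a1, h, one_smul]) (by rw [← hg, a2, h', neg_one_smul]))
      · rw [h, add_neg_cancel, zero_mul, zero_smul]
  have hind : LinearIndependent F₃ vv := by
    rw [linearIndependent_iff']
    intro s g hsum i hi
    have h := congrArg (proj i) hsum
    rw [map_sum, map_zero] at h
    simp only [map_smul, hproj] at h
    rw [Finset.sum_eq_single i (fun j _ hj => by rw [if_neg hj, smul_zero]) (fun h' => absurd hi h'),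
      if_pos rfl] at h
    exact (smul_eq_zero.1 h).resolve_right (hvne i)
  have hspan : ⊤ ≤ Submodule.span F₃ (Set.range vv) := by
    rcases S.irred (Submodule.span F₃ (Set.range vv)) (fun h x hx => by
      induction hx using Submodule.span_induction with
      | mem y hy =>
        obtain ⟨P, rfl⟩ := hy
        rw [hf]
        exact Submodule.smul_mem _ _ (Submodule.subset_span ⟨_, rfl⟩)
      | zero => simp
      | add y z _ _ hy hz => rw [map_add]; exact add_mem hy hz
      | smul c y _ hy => rw [map_smul]; exact Submodule.smul_mem _ c hy) with h | h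
    · exfalso
      let P : Pt σ e := ⟨_, 1, rfl⟩
      have : vv P ∈ Submodule.span F₃ (Set.range vv) := Submodule.subset_span ⟨P, rfl⟩
      rw [h] at this
      exact hvne P this
    · rw [h]
  let B : Module.Basis (Pt σ e) F₃ V := Module.Basis.mk hind hspan
  have hB : ∀ P, B P = vv P := fun P => Module.Basis.mk_apply _ _ P
  have hdetf : ∀ h, LinearMap.det (σ h) = ((Equiv.Perm.sign (π h) : ℤ) : F₃) * ∏ P, f h P := by
    intro h
    rw [← LinearMap.det_toMatrix B]
    have hm : LinearMap.toMatrix B B (σ h) = (π h)⁻¹.permMatrix F₃ * Matrix.diagonal (f h) := by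
      ext i j
      rw [LinearMap.toMatrix_apply, hB, hf, ← hB, map_smul, Module.Basis.repr_self,
        Matrix.mul_diagonal, Equiv.Perm.permMatrix, PEquiv.toMatrix_apply]
      simp only [Finsupp.smul_apply, smul_eq_mul, Finsupp.single_apply, Equiv.toPEquiv_apply, Option.mem_def,
        Option.some.injEq]
      by_cases hij : π h j = i
      · subst hij
        simp
      · have : ¬ (π h)⁻¹ i = j := fun h' => hij (by rw [← h']; exact (π h).apply_symm_apply i)
        simp [hij, this]
        intro h'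
        exact absurd h' this
    rw [hm, Matrix.det_mul, Matrix.det_permutation, Matrix.det_diagonal, Equiv.Perm.sign_inv]
  have hfaith : ∀ g h : H, (∀ P, σ g (vv P) = σ h (vv P)) → g = h := fun g h hgh =>
    S.faith (B.ext fun P => by rw [hB]; exact hgh P)
  -- the determinant is trivial on `R`
  have hR1 : ∀ r ∈ R, LinearMap.det (σ r) = 1 := by
    let δ : H →* F₃ := LinearMap.det.comp σ
    have hle : ⁅R, Subgroup.zpowers b⁆ ≤ δ.ker := by
      rw [Subgroup.commutator_le]
      intro x _ y _
      rw [MonoidHom.mem_ker, commutatorElement_def, map_mul, map_mul, map_mul]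
      calc δ x * δ y * δ x⁻¹ * δ y⁻¹ = (δ x * δ x⁻¹) * (δ y * δ y⁻¹) := by ring
        _ = 1 := by rw [← map_mul, ← map_mul, mul_inv_cancel, mul_inv_cancel, map_one, one_mul]
    rw [S.comm] at hle
    exact fun r hr => hle hr
  -- the three-cycle
  let x : Fin 3 → Pt σ e := ![⟨_, 1, rfl⟩, ⟨_, b, rfl⟩, ⟨_, b * b, rfl⟩]
  have hb3 : b * b * b = 1 := by rw [← S.b3]; simp [pow_succ]
  have hb3v : ∀ v, σ b (σ b (σ b v)) = v := fun v => by
    rw [← sigma_mul, ← sigma_mul, hb3, map_one]; rfl
  have hx0 : (x 0).1 = Submodule.span F₃ {e} := by simp [x]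
  have hx1 : (x 1).1 = Submodule.span F₃ {σ b e} := rfl
  have hx2 : (x 2).1 = Submodule.span F₃ {σ b (σ b e)} := by
    show Submodule.span F₃ {σ (b * b) e} = _
    rw [sigma_mul]
  have hπb : ∀ (P : Pt σ e) (y : V), P.1 = Submodule.span F₃ {y} → (π b P).1 = Submodule.span F₃ {σ b y} := by
    intro P y h
    show P.1.map (σ b) = _
    rw [h, Submodule.map_span, Set.image_singleton]
  have hmap : ∀ i, π b (x i) = x (i + 1) := by
    intro i
    apply Subtype.ext
    fin_cases i
    · show (π b (x 0)).1 = (x 1).1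
      rw [hπb _ _ hx0, hx1]
    · show (π b (x 1)).1 = (x 2).1
      rw [hπb _ _ hx1, hx2]
    · show (π b (x 2)).1 = (x 0).1
      rw [hπb _ _ hx2, hx0, hb3v]
  -- the signs of the four-group on a line
  have hsign : ∀ (a : H), a ∈ A → ∀ P y, P.1 = Submodule.span F₃ {y} → ∀ s : F₃, σ a y = s • y →
      σ a (vv P) = s • vv P := by
    intro a _ P y h s hs
    have hm : vv P ∈ P.1 := by rw [span_vec e P]; exact Submodule.mem_span_singleton_self _
    rw [h, Submodule.mem_span_singleton] at hm
    obtain ⟨c, hc⟩ := hm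
    rw [← hc, map_smul, hs, smul_comm]
  have w0 := hsign w hwA _ _ hx0 1 (by rw [L.w_e, one_smul])
  have u0 := hsign u huA _ _ hx0 (-1) (by rw [hu, L.w2_e, neg_one_smul])
  have w1 := hsign w hwA _ _ hx1 (-1) (by rw [e2w, neg_one_smul])
  have u1 := hsign u huA _ _ hx1 1 (by rw [e2u, one_smul])
  have w2 := hsign w hwA _ _ hx2 (-1) (by rw [e3w, neg_one_smul])
  have u2 := hsign u huA _ _ hx2 (-1) (by rw [e3u, neg_one_smul])
  simp only [one_smul, neg_one_smul] at w0 u0 w1 u1 w2 u2
  have hxinj : Function.Injective x := by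
    intro i j h
    have hn := neg_ne_self (hvne (x i))
    fin_cases i <;> fin_cases j <;> simp only [Fin.isValue, Fin.zero_eta, Fin.mk_one, Fin.reduceFinMk] at h hn ⊢ <;>
      first
        | (exfalso; rw [h] at w0 hn; rw [w0] at w1; exact hn w1.symm)
        | (exfalso; rw [h] at w0 hn; rw [w0] at w2; exact hn w2.symm)
        | (exfalso; rw [h] at u1 hn; rw [u1] at u2; exact hn u2.symm)
        | (exfalso; rw [← h] at w0; rw [w0] at w1; exact hn w1.symm)
        | (exfalso; rw [← h] at w0; rw [w0] at w2; exact hn w2.symm)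
        | (exfalso; rw [← h] at u1; rw [u1] at u2; exact hn u2.symm)
        | rfl
  have hfixb : ∀ y, (∀ i, y ≠ x i) → π b y = y := by
    intro y hy
    have a1 := hfA w hwA y
    have a2 := hfA u huA y
    have hin : ∀ g : H, ∀ c : F₃, c • σ g e = vv y → y.1 = Submodule.span F₃ {σ g e} := fun g c h => by
      have hc : c ≠ 0 := fun h0 => hvne y (by rw [← h, h0, zero_smul])
      exact hpt y g c hc h.symm
    rcases unit_cases _ (hf0 w y) with hs | hs <;> rcases unit_cases _ (hf0 u y) with ht | ht <;>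
      rw [hs] at a1 <;> rw [ht] at a2 <;> simp only [one_smul, neg_one_smul] at a1 a2
    · have hb := L.fixb _ a1 a2
      apply Subtype.ext
      rw [hπb y (vv y) (span_vec e y), hb]
      exact (span_vec e y).symm
    · exfalso
      obtain ⟨c, hc⟩ := L.line _ a1 a2
      refine hy 0 (Subtype.ext ?_)
      rw [hin 1 c (by rw [map_one]; exact hc), hx0, map_one]; rfl
    · exfalso
      have h1 : σ (b * w * b⁻¹) (vv y) = vv y := a2
      have h2 : σ (b * u * b⁻¹) (vv y) = -vv y := by
        rw [show b * u * b⁻¹ = w * u from F.rel.symm, sigma_mul, a2, a1]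
      obtain ⟨c, hc⟩ := line' b _ h1 h2
      exact hy 1 (Subtype.ext (by rw [hin b c hc, hx1]))
    · exfalso
      have h1 : σ (b * b * w * (b * b)⁻¹) (vv y) = vv y := by
        rw [show b * b * w * (b * b)⁻¹ = b * u * b⁻¹ by rw [hu]; group, show b * u * b⁻¹ = w * u from F.rel.symm,
          sigma_mul, a2, map_neg, a1, neg_neg]
      have h2 : σ (b * b * u * (b * b)⁻¹) (vv y) = -vv y := by
        rw [show b * b * u * (b * b)⁻¹ = w by
          calc b * b * u * (b * b)⁻¹ = (b * b * b) * w * (b * b * b)⁻¹ := by rw [hu]; group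
            _ = w := by rw [hb3]; group, a1]
      obtain ⟨c, hc⟩ := line' (b * b) _ h1 h2
      exact hy 2 (Subtype.ext (by rw [hin (b * b) c hc, hx2, sigma_mul]))
  set K := R.map π with hK
  set c := π b with hc
  have hbj : ∀ j : ℤ, ∃ n : Fin 3, b ^ j = b ^ (n : ℕ) := by
    intro j
    have h : b ^ j = b ^ (j % 3).toNat := by
      rw [← zpow_natCast, Int.toNat_of_nonneg (Int.emod_nonneg _ (by norm_num))]
      conv_lhs => rw [← Int.mul_ediv_add_emod j 3, zpow_add, zpow_mul, show (3 : ℤ) = ((3 : ℕ) : ℤ) from rfl,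
        zpow_natCast, S.b3, one_zpow, one_mul]
      rfl
    exact ⟨⟨(j % 3).toNat, by omega⟩, h⟩
  have hxb : ∀ n : ℕ, ∃ i, π (b ^ n) (x 0) = x i := by
    intro n
    induction n with
    | zero => exact ⟨0, by simp⟩
    | succ n ih =>
      obtain ⟨i, hi⟩ := ih
      exact ⟨i + 1, by rw [pow_succ', map_mul, Equiv.Perm.mul_apply, hi, hmap]⟩
  have hCS : CycleSetting K c x := by
    refine ⟨hxinj, hmap, hfixb, ?_, ?_, ?_, ?_⟩
    · rintro _ ⟨r, hr, rfl⟩
      exact ⟨b * r * b⁻¹, S.norm.conj_mem r hr b, by rw [map_mul, map_mul, map_inv]⟩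
    · intro h
      rw [hK] at h
      exact S.cop (h.trans (Subgroup.card_map_dvd R π))
    · set C := Subgroup.closure {g | ∃ k ∈ K, k * c * k⁻¹ * c⁻¹ = g} with hCdef
      have hinv : ∀ g ∈ C, c * g * c⁻¹ ∈ C := by
        intro g hg
        induction hg using Subgroup.closure_induction with
        | mem g hg =>
          obtain ⟨k, ⟨r, hr, rfl⟩, rfl⟩ := hg
          refine Subgroup.subset_closure ⟨π (b * r * b⁻¹), ⟨_, S.norm.conj_mem r hr b, rfl⟩, ?_⟩
          rw [map_mul, map_mul, map_inv, ← hc]
          group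
        | one => simp [C.one_mem]
        | mul p q _ _ hp hq =>
          rw [show c * (p * q) * c⁻¹ = (c * p * c⁻¹) * (c * q * c⁻¹) by group]; exact C.mul_mem hp hq
        | inv p _ hp =>
          rw [show c * p⁻¹ * c⁻¹ = (c * p * c⁻¹)⁻¹ by group]; exact C.inv_mem hp
      have hgen : ⁅R, Subgroup.zpowers b⁆ ≤ C.comap π := by
        rw [Subgroup.commutator_le]
        rintro r hr _ ⟨j, rfl⟩
        obtain ⟨n, hn⟩ := hbj j
        show π ⁅r, b ^ j⁆ ∈ C
        rw [hn]
        generalize (n : ℕ) = m
        induction m with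
        | zero => simp [commutatorElement_def, C.one_mem]
        | succ m ih =>
          have h1 : π r * c * (π r)⁻¹ * c⁻¹ ∈ C := Subgroup.subset_closure ⟨π r, ⟨r, hr, rfl⟩, rfl⟩
          have h2 : π ⁅r, b ^ (m + 1)⁆ = (π r * c * (π r)⁻¹ * c⁻¹) * (c * π ⁅r, b ^ m⁆ * c⁻¹) := by
            rw [commutatorElement_def, commutatorElement_def, pow_succ']
            simp only [map_mul, map_inv, ← hc]
            group
          rw [h2]
          exact C.mul_mem h1 (hinv _ ih)
      rw [S.comm] at hgen
      rintro _ ⟨r, hr, rfl⟩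
      exact hgen hr
    · intro y
      obtain ⟨g, hg⟩ := y.2
      have hy : π g (x 0) = y := Subtype.ext (by
        show (x 0).1.map (σ g) = y.1
        rw [hx0, Submodule.map_span, Set.image_singleton, hg])
      have hgm : g ∈ ((R ⊔ Subgroup.zpowers b : Subgroup H) : Set H) := by rw [S.gen]; trivial
      haveI := S.norm
      rw [Subgroup.normal_mul] at hgm
      obtain ⟨r, hr, t, ⟨j, rfl⟩, rfl⟩ := hgm
      obtain ⟨n, hn⟩ := hbj j
      obtain ⟨i, hi⟩ := hxb n
      refine ⟨π r, ⟨r, hr, rfl⟩, i, ?_⟩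
      rw [← hy]
      show _ = π (r * b ^ j) (x 0)
      rw [hn, map_mul, Equiv.Perm.mul_apply, hi]
  -- the diagonal part
  set D := R ⊓ π.ker with hD
  have hDfix : ∀ d ∈ D, ∀ P, π d P = P := fun d hd P => by
    rw [show π d = 1 from hd.2]; rfl
  have hDval : ∀ d ∈ D, ∀ P, σ d (vv P) = f d P • vv P := fun d hd P => by
    conv_lhs => rw [hf, hDfix d hd]
  have hDprod : ∀ d ∈ D, ∏ P, f d P = 1 := fun d hd => by
    have h := hdetf d
    rw [hR1 d hd.1, show π d = 1 from hd.2] at h
    simpa using h.symm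
  have hAD : A ≤ D := fun a ha => ⟨hAR ha, Equiv.ext fun P => hAfix a ha P⟩
  have hDab : ∀ p ∈ D, ∀ q ∈ D, p * q = q * p := fun p hp q hq => hfaith _ _ fun P => by
    rw [sigma_mul, sigma_mul, hDval q hq, map_smul, hDval p hp, map_smul, hDval q hq, smul_comm]
  have hDsq : ∀ p ∈ D, p * p = 1 := fun p hp => hfaith _ _ fun P => by
    rw [sigma_mul, hDval p hp, map_smul, hDval p hp, smul_smul, map_one]
    rcases unit_cases _ (hf0 p P) with h | h <;> rw [h] <;> simp
  let Ψ : D → ({P : Pt σ e // P ≠ x 0} → Bool) := fun d P => decide (f d P.1 = 1)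
  have hΨ : Function.Injective Ψ := by
    intro p q h
    have hne : ∀ P, P ≠ x 0 → f p P = f q P := fun P hP => by
      have h' : decide (f p P = 1) = decide (f q P = 1) := congrFun h ⟨P, hP⟩
      rcases unit_cases _ (hf0 p P) with a | a <;> rcases unit_cases _ (hf0 q P) with a' | a' <;>
        first
          | exact a.trans a'.symm
          | (rw [a, a'] at h'; exact absurd h' (by decide))
    have hall : ∀ P, f p P = f q P := by
      intro P
      by_cases hP : P = x 0
      · subst hP
        have h1 := hDprod p p.2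
        have h2 := hDprod q q.2
        rw [← Finset.mul_prod_erase Finset.univ _ (Finset.mem_univ (x 0))] at h1 h2
        rw [Finset.prod_congr rfl fun P hP => hne P (Finset.ne_of_mem_erase hP)] at h1
        exact mul_right_cancel₀ (fun h0 => by rw [h0, mul_zero] at h2; exact zero_ne_one h2) (h1.trans h2.symm)
      · exact hne P hP
    exact Subtype.ext (hfaith _ _ fun P => by rw [hDval p p.2, hDval q q.2, hall P])
  have hDle : Nat.card D ≤ 2 ^ (Nat.card (Pt σ e) - 1) := by
    refine (Nat.card_le_card_of_injective Ψ hΨ).trans (le_of_eq ?_)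
    rw [Nat.card_eq_fintype_card, Fintype.card_fun, Fintype.card_bool, Fintype.card_subtype_compl,
      Fintype.card_subtype_eq, Nat.card_eq_fintype_card]
  have hwu : w ∈ D ∧ u ∈ D := ⟨hAD hwA, hAD huA⟩
  have hwne : w ≠ 1 := fun h => neg_ne_self (hvne (x 1)) (by
    rw [h, map_one] at w1; exact w1.symm)
  have hune : u ≠ 1 := fun h => neg_ne_self (hvne (x 0)) (by
    rw [h, map_one] at u0; exact u0.symm)
  have hne2 : w ≠ u := fun h => neg_ne_self (hvne (x 0)) (by
    rw [← h, w0] at u0; exact u0.symm)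
  have hwune : w * u ≠ 1 := fun h => hne2 (by
    calc w = w * (u * u) := by rw [hu', mul_one]
      _ = u := by rw [← mul_assoc, h, one_mul])
  have hwu1 : w * u ≠ w := fun h => hune (mul_left_cancel (h.trans (mul_one w).symm))
  have hwu2 : w * u ≠ u := fun h => hwne (mul_right_cancel (h.trans (one_mul u).symm))
  let four : Fin 4 → D := ![1, ⟨w, hwu.1⟩, ⟨u, hwu.2⟩, ⟨w * u, D.mul_mem hwu.1 hwu.2⟩]
  have hfour : Function.Injective four := by
    intro i j h
    have h' := congrArg Subtype.val h
    fin_cases i <;> fin_cases j <;>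
      first
        | rfl
        | exact absurd h' hwne | exact absurd h'.symm hwne | exact absurd h' hune | exact absurd h'.symm hune
        | exact absurd h' hne2 | exact absurd h'.symm hne2 | exact absurd h' hwune | exact absurd h'.symm hwune
        | exact absurd h' hwu1 | exact absurd h'.symm hwu1 | exact absurd h' hwu2 | exact absurd h'.symm hwu2
  rcases hCS.result with ⟨h3, hK1⟩ | ⟨h4, hKl, hKt⟩
  · left
    have hRD : R ≤ D := fun r hr => ⟨hr, by
      have : π r ∈ K := ⟨r, hr, rfl⟩
      rw [hK1] at this; exact this⟩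
    have hRD' : R = D := le_antisymm hRD inf_le_left
    rw [hRD']
    refine ⟨le_antisymm ?_ ?_, hDab, hDsq⟩
    · rw [h3] at hDle; simpa using hDle
    · simpa using Nat.card_le_card_of_injective four hfour
  right
  -- a fourth line and a sign change there
  obtain ⟨y, hy⟩ : ∃ y, ∀ i, y ≠ x i := by
    by_contra hcon
    push Not at hcon
    have := Nat.card_le_card_of_surjective x (fun y => (hcon y).imp fun i h => h.symm)
    rw [h4, Nat.card_fin] at this
    omega
  obtain ⟨_, ⟨r, hr, rfl⟩, hry⟩ := hKt (x 0) y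
  set d := r * u * r⁻¹ with hd
  have hdA : d ∈ A := ‹A.Normal›.conj_mem u huA r
  have hdy : σ d (vv y) = -vv y := by
    have h1 := hf r (x 0)
    rw [hry] at h1
    have h2 : σ d (σ r (vv (x 0))) = -σ r (vv (x 0)) := by
      rw [← sigma_mul, show d * r = r * u by rw [hd]; group, sigma_mul, u0, map_neg]
    rw [h1, map_smul, ← smul_neg] at h2
    exact smul_right_injective V (hf0 r (x 0)) h2
  have hQy : σ w (vv y) = vv y ∧ σ u (vv y) = vv y := by
    have a1 := hfA w hwA y
    have a2 := hfA u huA y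
    have hno : ∀ i g, vv y ≠ 0 → (x i).1 = Submodule.span F₃ {σ g e} → ∀ c : F₃, c • σ g e = vv y → False := by
      intro i g _ hi c h
      have hc0 : c ≠ 0 := fun h0 => hvne y (by rw [← h, h0, zero_smul])
      exact hy i (Subtype.ext ((hpt y g c hc0 h.symm).trans hi.symm))
    rcases unit_cases _ (hf0 w y) with hs | hs <;> rcases unit_cases _ (hf0 u y) with ht | ht <;>
      rw [hs] at a1 <;> rw [ht] at a2 <;> simp only [one_smul, neg_one_smul] at a1 a2
    · exact ⟨a1, a2⟩
    · exfalso
      obtain ⟨c, hc⟩ := L.line _ a1 a2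
      exact hno 0 1 (hvne y) (by rw [hx0, map_one]; rfl) c (by rw [map_one]; exact hc)
    · exfalso
      obtain ⟨c, hc⟩ := line' b _ (show σ (b * w * b⁻¹) (vv y) = vv y from a2) (by
        rw [show b * u * b⁻¹ = w * u from F.rel.symm, sigma_mul, a2, a1])
      exact hno 1 b (hvne y) hx1 c hc
    · exfalso
      obtain ⟨c, hc⟩ := line' (b * b) _ (by
        rw [show b * b * w * (b * b)⁻¹ = b * u * b⁻¹ by rw [hu]; group, show b * u * b⁻¹ = w * u from F.rel.symm,
          sigma_mul, a2, map_neg, a1, neg_neg]) (by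
        rw [show b * b * u * (b * b)⁻¹ = w by
          calc b * b * u * (b * b)⁻¹ = (b * b * b) * w * (b * b * b)⁻¹ := by rw [hu]; group
            _ = w := by rw [hb3]; group, a1])
      exact hno 2 (b * b) (hvne y) (by rw [hx2, sigma_mul]) c hc
  let five : Fin 5 → D := Fin.cons ⟨d, hAD hdA⟩ four
  have hfive : Function.Injective five := by
    refine Fin.cons_injective_iff.2 ⟨?_, hfour⟩
    rintro ⟨i, hi⟩
    have h' := congrArg Subtype.val hi
    have hfx : σ ((four i : D) : H) (vv y) = vv y := by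
      fin_cases i
      · show σ (1 : H) (vv y) = vv y; rw [map_one]; rfl
      · exact hQy.1
      · exact hQy.2
      · show σ (w * u) (vv y) = vv y; rw [sigma_mul, hQy.2, hQy.1]
    rw [h'] at hfx
    change σ d (vv y) = vv y at hfx
    rw [hdy] at hfx
    exact neg_ne_self (hvne y) hfx
  have : Fact (Nat.Prime 2) := ⟨Nat.prime_two⟩
  have hD2 : IsPGroup 2 D := fun p => ⟨1, Subtype.ext (by
    simp only [pow_one, Subgroup.coe_pow, Subgroup.coe_one, pow_two]; exact hDsq p p.2)⟩
  have hD8 : Nat.card D = 8 := by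
    obtain ⟨n, hn⟩ := hD2.exists_card_eq
    have h5 : 5 ≤ Nat.card D := by simpa using Nat.card_le_card_of_injective five hfive
    rw [h4] at hDle
    rw [hn] at h5 hDle ⊢
    have h1 : n ≤ 3 := (Nat.pow_le_pow_iff_right (by norm_num)).1 hDle
    interval_cases n <;> first | (norm_num at h5; done) | norm_num
  -- the order
  have hKc : Nat.card K = 4 := by
    refine le_antisymm ?_ ?_
    · rw [← h4]
      refine Nat.card_le_card_of_injective (fun k : K => (k : Equiv.Perm (Pt σ e)) y) fun k l h => ?_
      have hm : (l : Equiv.Perm (Pt σ e))⁻¹ * k ∈ K := K.mul_mem (K.inv_mem l.2) k.2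
      rcases (hKl _ hm).2 with e1 | e1
      · exact Subtype.ext (inv_mul_eq_one.1 e1).symm
      · exfalso
        apply e1 y
        rw [Equiv.Perm.mul_apply]
        simp only at h
        rw [h]
        exact (l : Equiv.Perm (Pt σ e)).symm_apply_apply y
    · rw [← h4]
      exact Nat.card_le_card_of_surjective (fun k : K => (k : Equiv.Perm (Pt σ e)) y)
        fun z => let ⟨k, hk, h⟩ := hKt y z; ⟨⟨k, hk⟩, h⟩
  have hR32 : Nat.card R = 32 := by
    have h1 := Subgroup.card_mul_index (π.comp R.subtype).ker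
    rw [Subgroup.index_ker, MonoidHom.range_comp, Subgroup.range_subtype, ← hK, hKc] at h1
    have h2 : Nat.card (π.comp R.subtype).ker = Nat.card D := Nat.card_congr
      { toFun := fun p => ⟨(p.1 : H), p.1.2, p.2⟩
        invFun := fun q => ⟨⟨(q : H), q.2.1⟩, q.2.2⟩
        left_inv := fun _ => rfl
        right_inv := fun _ => rfl }
    rw [h2, hD8] at h1
    omega
  refine ⟨hR32, ?_, D, inf_le_left, hDab, hDsq, hD8⟩
  -- minus one
  obtain ⟨z, hz⟩ : ∃ z : D, ∀ P, f z P = -1 := by
    have hbij : Function.Bijective Ψ := (Nat.bijective_iff_injective_and_card Ψ).2 ⟨hΨ, by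
      rw [hD8, Nat.card_eq_fintype_card, Fintype.card_fun, Fintype.card_bool, Fintype.card_subtype_compl,
        Fintype.card_subtype_eq, ← Nat.card_eq_fintype_card, h4]
      rfl⟩
    obtain ⟨z, hz⟩ := hbij.2 (fun _ => false)
    have hne : ∀ P, P ≠ x 0 → f z P = -1 := fun P hP => by
      have h' : decide (f z P = 1) = false := congrFun hz ⟨P, hP⟩
      exact (unit_cases _ (hf0 z P)).resolve_left (of_decide_eq_false h')
    refine ⟨z, fun P => ?_⟩
    by_cases hP : P = x 0
    · subst hP
      have h2 := hDprod z z.2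
      rw [← Finset.mul_prod_erase Finset.univ _ (Finset.mem_univ (x 0)),
        Finset.prod_congr rfl fun P hP => hne P (Finset.ne_of_mem_erase hP), Finset.prod_const,
        Finset.card_erase_of_mem (Finset.mem_univ _), Finset.card_univ, ← Nat.card_eq_fintype_card, h4] at h2
      rcases unit_cases _ (hf0 z (x 0)) with a | a
      · rw [a] at h2; exact absurd h2 (by decide)
      · exact a
    · exact hne P hP
  have hzv : ∀ v, σ (z : H) v = -v := fun v => by
    have := B.ext (f₁ := σ (z : H)) (f₂ := -LinearMap.id) fun P => by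
      rw [hB, hDval z z.2, hz, neg_one_smul]; rfl
    rw [this]; rfl
  refine ⟨z, z.2.1, hDsq z z.2, ?_, ?_, ?_, ?_⟩
  · intro h
    have := hzv e
    rw [h, map_one] at this
    exact neg_ne_self L.ne this.symm
  · intro g hg
    have hgK : π g ∈ K := ⟨g, hg, rfl⟩
    have hg2 : ∀ P, σ (g * g) (vv P) = (f g P * f g (π g P)) • vv P := fun P => by
      rw [sigma_mul, hf, map_smul, hf, smul_smul, (hKl _ hgK).1 P]
    by_cases hg1 : π g = 1
    · left
      exact hDsq g ⟨hg, hg1⟩
    have hconst : ∀ P Q, f g P * f g (π g P) = f g Q * f g (π g Q) := by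
      intro P Q
      let ε : Fin 4 ≃ Pt σ e := (Finite.equivFinOfCardEq h4).symm
      let a := ε.symm.permCongr (π g)
      have hεa : ∀ i, ε (a i) = π g (ε i) := fun i => by simp [a, Equiv.permCongr_apply]
      have hnf := (hKl _ hgK).2.resolve_left hg1
      have hsg : Equiv.Perm.sign a = Equiv.Perm.sign (π g) := Equiv.Perm.sign_permCongr _ _
      have hkl : InKlein a := ⟨fun i => ε.injective (by rw [hεa, hεa, (hKl _ hgK).1]),
        Or.inr fun i h => hnf (ε i) (by rw [← hεa, h])⟩
      have := klein_sign a hkl (fun i => f g (ε i)) (fun i => hf0 _ _) (by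
        rw [hsg, Equiv.prod_comp ε (f g), ← hdetf, hR1 g hg]) (fun h => hnf y (by
          have := hεa (ε.symm y)
          rw [h] at this
          simpa using this.symm)) (ε.symm P) (ε.symm Q)
      simpa [hεa] using this
    rcases unit_cases _ (mul_ne_zero (hf0 g y) (hf0 g (π g y))) with h | h
    · left
      exact hfaith _ _ fun P => by rw [hg2, hconst P y, h, one_smul, map_one]; rfl
    · right
      exact hfaith _ _ fun P => by rw [hg2, hconst P y, h, neg_one_smul, hzv]
  · intro g _
    apply S.faith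
    refine LinearMap.ext fun v => ?_
    rw [sigma_mul, sigma_mul, hzv, hzv, map_neg]
  · intro g hg hcen
    have hgD : g ∈ D := by
      refine ⟨hg, Equiv.ext fun P => ?_⟩
      have hP : P.1 = Submodule.span F₃ {σ P.2.choose e} := span_vec e P
      obtain ⟨c1, c2⟩ := hchar P.2.choose
      have key : ∀ a ∈ A, ∀ s : F₃, σ a (vv P) = s • vv P → σ a (vv (π g P)) = s • vv (π g P) := by
        intro a ha s hs
        have h1 : σ a (σ g (vv P)) = s • σ g (vv P) := by
          rw [← sigma_mul, ← hcen a (hAR ha), sigma_mul, hs, map_smul]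
        rw [hf, map_smul, smul_comm] at h1
        exact smul_right_injective V (hf0 g P) h1
      have k1 := key _ (‹A.Normal›.conj_mem w hwA P.2.choose) 1 (by rw [one_smul]; exact c1)
      have k2 := key _ (‹A.Normal›.conj_mem u huA P.2.choose) (-1) (by rw [neg_one_smul]; exact c2)
      rw [one_smul] at k1
      rw [neg_one_smul] at k2
      exact hdet P (π g P) k1 k2
    have hconst : ∀ P, f g P = f g y := by
      intro P
      obtain ⟨_, ⟨k, hk, rfl⟩, hkP⟩ := hKt P y
      have h1 : σ g (σ k (vv P)) = σ k (σ g (vv P)) := by rw [← sigma_mul, hcen k hk, sigma_mul]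
      rw [hf k P, hkP, map_smul, hDval g hgD, hDval g hgD, map_smul, hf k P, hkP, smul_smul, smul_smul] at h1
      have h2 := smul_left_injective F₃ (hvne y) h1
      exact mul_left_cancel₀ (hf0 k P) (by rw [mul_comm (f k P) (f g P)]; exact h2.symm)
    rcases unit_cases _ (hf0 g y) with h | h
    · left
      exact hfaith _ _ fun P => by rw [hDval g hgD, hconst, h, one_smul, map_one]; rfl
    · right
      exact hfaith _ _ fun P => by rw [hDval g hgD, hconst, h, neg_one_smul, hzv]

end Cfsg.Agent.JordanThree
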