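/-
Without a normal elementary abelian subgroup carrying a moved four-group the setting is impossible.
-/
import Cfsg.Agent.Lib.JordanThree.Monomial
import Cfsg.Agent.Lib.Basic
import Cfsg.Agent.Lib.Elementary

set_option autoImplicit false

namespace Cfsg.Agent.JordanThree

open scoped commutatorElement

local notation "F₃" => ZMod 3

variable {H V : Type*} [Group H] [AddCommGroup V] [Module (ZMod 3) V]
variable {σ : Representation (ZMod 3) H V} {R : Subgroup H} {b w : H}

/-- Acting as `1` or as `-1`. -/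
def IsScal (σ : Representation (ZMod 3) H V) (h : H) : Prop :=
  (∀ v, σ h v = v) ∨ ∀ v, σ h v = -v

theorem IsScal.comm (hσ : Function.Injective σ) {z : H} (hz : IsScal σ z) (h : H) : h * z = z * h := by
  apply hσ
  refine LinearMap.ext fun v => ?_
  rw [sigma_mul, sigma_mul]
  rcases hz with e | e <;> simp [e]

theorem IsScal.sq (hσ : Function.Injective σ) {z : H} (hz : IsScal σ z) : z * z = 1 := by
  apply hσ
  refine LinearMap.ext fun v => ?_
  rw [sigma_mul, map_one]
  rcases hz with e | e <;> simp [e]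

/-- The scalars in `R`. -/
def scalars (σ : Representation (ZMod 3) H V) (R : Subgroup H) : Subgroup H where
  carrier := {h | h ∈ R ∧ IsScal σ h}
  one_mem' := ⟨R.one_mem, Or.inl fun v => by rw [map_one]; rfl⟩
  mul_mem' := by
    rintro x y ⟨hx, ex⟩ ⟨hy, ey⟩
    refine ⟨R.mul_mem hx hy, ?_⟩
    rcases ex with ex | ex <;> rcases ey with ey | ey
    · exact Or.inl fun v => by rw [sigma_mul, ey, ex]
    · exact Or.inr fun v => by rw [sigma_mul, ey, ex]
    · exact Or.inr fun v => by rw [sigma_mul, ey, ex]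
    · exact Or.inl fun v => by rw [sigma_mul, ey, ex, neg_neg]
  inv_mem' := by
    rintro x ⟨hx, ex⟩
    refine ⟨R.inv_mem hx, ?_⟩
    rcases ex with ex | ex
    · exact Or.inl fun v => by conv_lhs => rw [← ex v, sigma_inv_self]
    · exact Or.inr fun v => by
        rw [← sigma_inv_self (σ := σ) x (-v)]
        rw [ex, neg_neg]

variable [Finite V] [Finite H]

namespace Setting

variable (S : Setting σ R b)
include S

theorem scalars_normal : (scalars σ R).Normal :=
  ⟨fun x hx g => by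
    rw [show g * x * g⁻¹ = x by rw [hx.2.comm S.faith g, mul_inv_cancel_right]]
    exact hx⟩

theorem two_le (T : Subgroup H) (hT : IsPGroup 2 T) : T ≤ R := by
  intro t ht
  have := S.norm
  obtain ⟨k, hk⟩ := hT ⟨t, ht⟩
  have hk' : t ^ (2 ^ k) = 1 := by simpa using congrArg Subtype.val hk
  rw [← QuotientGroup.eq_one_iff (N := R)]
  have hsurj : ∀ q : H ⧸ R, ∃ j : ℤ, q = (b : H ⧸ R) ^ j := by
    intro q
    obtain ⟨g, rfl⟩ := QuotientGroup.mk_surjective q
    have hg : g ∈ ((R ⊔ Subgroup.zpowers b : Subgroup H) : Set H) := by rw [S.gen]; trivial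
    rw [Subgroup.normal_mul] at hg
    obtain ⟨r, hr, s, ⟨j, rfl⟩, rfl⟩ := hg
    exact ⟨j, by rw [QuotientGroup.mk_mul, (QuotientGroup.eq_one_iff r).2 hr, one_mul, QuotientGroup.mk_zpow]⟩
  have h3 : (t : H ⧸ R) ^ 3 = 1 := by
    obtain ⟨j, hj⟩ := hsurj t
    rw [hj, ← zpow_natCast, ← zpow_mul, mul_comm, zpow_mul, zpow_natCast, ← QuotientGroup.mk_pow, S.b3,
      QuotientGroup.mk_one, one_zpow]
  have h2 : (t : H ⧸ R) ^ (2 ^ k) = 1 := by rw [← QuotientGroup.mk_pow, hk', QuotientGroup.mk_one]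
  exact orderOf_eq_one_iff.1 (Nat.eq_one_of_dvd_coprimes (Nat.Coprime.pow_left k (by norm_num : Nat.Coprime 2 3))
    (orderOf_dvd_of_pow_eq_one h2) (orderOf_dvd_of_pow_eq_one h3))

/-- Normal abelian 2-subgroups of `R` consist of scalars. -/
theorem abelian_scalar
    (hm : ∀ A : Subgroup H, A.Normal → A ≤ R → (∀ x ∈ A, ∀ y ∈ A, x * y = y * x) →
      (∀ x ∈ A, x * x = 1) → ∀ w' ∈ A, ¬ Four b w')
    (A : Subgroup H) [A.Normal] (hab : ∀ x ∈ A, ∀ y ∈ A, x * y = y * x) (h2 : IsPGroup 2 A) :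
    A ≤ scalars σ R := by
  classical
  have hAR := S.two_le A h2
  have hcen : ∀ a ∈ A, b * a = a * b := by
    by_contra hcon
    push Not at hcon
    obtain ⟨a, haA, hab'⟩ := hcon
    obtain ⟨k, hk⟩ := h2 ⟨a, haA⟩
    have hex : ∃ j, b * a ^ (2 ^ j) = a ^ (2 ^ j) * b :=
      ⟨k, by rw [show a ^ (2 ^ k) = 1 by simpa using congrArg Subtype.val hk]; simp⟩
    obtain ⟨i, hi⟩ : ∃ i, Nat.find hex = i + 1 := by
      rcases hfind : Nat.find hex with _ | i
      · exfalso
        have := Nat.find_spec hex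
        rw [hfind, pow_zero, pow_one] at this
        exact hab' this
      · exact ⟨i, rfl⟩
    have hsq := Nat.find_spec hex
    rw [hi] at hsq
    have hnc := Nat.find_min hex (show i < Nat.find hex by omega)
    set c := a ^ (2 ^ i) with hc
    have hcA : c ∈ A := A.pow_mem haA _
    have hc2 : b * (c * c) = c * c * b := by rw [hc, ← pow_add, ← two_mul, ← pow_succ']; exact hsq
    clear_value c
    let A₁ : Subgroup H :=
      { carrier := {x | x ∈ A ∧ x * x = 1}
        one_mem' := ⟨A.one_mem, by simp⟩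
        mul_mem' := by
          rintro x y ⟨hx, ex⟩ ⟨hy, ey⟩
          refine ⟨A.mul_mem hx hy, ?_⟩
          calc x * y * (x * y) = x * (y * x) * y := by group
            _ = x * (x * y) * y := by rw [hab y hy x hx]
            _ = (x * x) * (y * y) := by group
            _ = 1 := by rw [ex, ey, one_mul]
        inv_mem' := by
          rintro x ⟨hx, ex⟩
          exact ⟨A.inv_mem hx, by rw [← mul_inv_rev, ex, inv_one]⟩ }
    have hA₁n : A₁.Normal := ⟨fun x hx g => ⟨‹A.Normal›.conj_mem x hx.1 g, by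
      calc g * x * g⁻¹ * (g * x * g⁻¹) = g * (x * x) * g⁻¹ := by group
        _ = 1 := by rw [hx.2]; group⟩⟩
    set x := b * c * b⁻¹ with hx
    have hxA : x ∈ A := ‹A.Normal›.conj_mem c hcA b
    have hxx : x * x = c * c := by
      rw [hx, show b * c * b⁻¹ * (b * c * b⁻¹) = (b * (c * c)) * b⁻¹ by group, hc2, mul_inv_cancel_right]
    set w' := x * c⁻¹ with hw'
    have hw'sq : w' * w' = 1 := by
      rw [hw']
      calc x * c⁻¹ * (x * c⁻¹) = x * (c⁻¹ * x) * c⁻¹ := by group
        _ = x * (x * c⁻¹) * c⁻¹ := by rw [hab c⁻¹ (A.inv_mem hcA) x hxA]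
        _ = (x * x) * (c * c)⁻¹ := by group
        _ = 1 := by rw [hxx, mul_inv_cancel]
    have hw'A : w' ∈ A₁ := ⟨A.mul_mem hxA (A.inv_mem hcA), hw'sq⟩
    set y := b * x * b⁻¹ with hy
    have hyA : y ∈ A := ‹A.Normal›.conj_mem x hxA b
    have hb3 : b * b * b = 1 := by rw [← S.b3]; simp [pow_succ]
    have hby : b * y * b⁻¹ = c := by
      rw [hy, hx]
      calc b * (b * (b * c * b⁻¹) * b⁻¹) * b⁻¹ = (b * b * b) * c * (b * b * b)⁻¹ := by group
        _ = c := by rw [hb3]; group
    have hu' : b * w' * b⁻¹ = y * x⁻¹ := by rw [hw', hy, hx]; group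
    have hv' : b * (y * x⁻¹) * b⁻¹ = c * y⁻¹ := by
      rw [show b * (y * x⁻¹) * b⁻¹ = (b * y * b⁻¹) * (b * x * b⁻¹)⁻¹ by group, hby, ← hy]
    have hu'A : y * x⁻¹ ∈ A₁ := hu' ▸ hA₁n.conj_mem w' hw'A b
    have hA₁ab : ∀ p ∈ A₁, ∀ q ∈ A₁, p * q = q * p := fun p hp q hq => hab p hp.1 q hq.1
    refine hm A₁ hA₁n (fun p hp => hAR hp.1) hA₁ab (fun p hp => hp.2) w' hw'A
      ⟨hw'sq, ?_, ?_, ?_⟩
    · intro h
      apply hnc
      have hwb : b * w' * b⁻¹ = w' := h
      have h3 : w' * w' * w' = 1 := by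
        have e1 : y * x⁻¹ = w' := hu' ▸ hwb
        have e2 : c * y⁻¹ = w' := by rw [← hv', e1, hwb]
        calc w' * w' * w' = (c * y⁻¹) * (y * x⁻¹) * (x * c⁻¹) := by rw [e1, e2, hw']
          _ = 1 := by group
      rw [hw'sq, one_mul] at h3
      rw [hw', mul_inv_eq_one, hx, mul_inv_eq_iff_eq_mul] at h3
      exact h3
    · rw [hu', hv']
      have hinv : (w' * (y * x⁻¹))⁻¹ = w' * (y * x⁻¹) :=
        inv_eq_of_mul_eq_one_right (A₁.mul_mem hw'A hu'A).2
      have h1 : w' * (y * x⁻¹) = y * c⁻¹ := by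
        rw [hw', hab _ (A.mul_mem hxA (A.inv_mem hcA)) _ (A.mul_mem hyA (A.inv_mem hxA))]
        group
      rw [← hinv, h1]
      group
    · rw [hu']; exact hA₁ab _ hw'A _ hu'A
  intro a ha
  exact ⟨hAR ha, S.scalar_of_central (S.central_of_normal A hcen a ha)⟩

end Setting

theorem trace_zero_of_anti {t y : H} (h : ∀ v, σ (y * t * y⁻¹) v = -σ t v) :
    LinearMap.trace F₃ V (σ t) = 0 := by
  have e : σ (y * t * y⁻¹) = -σ t := LinearMap.ext fun v => by rw [h]; rfl
  have h1 : LinearMap.trace F₃ V (σ (y * t * y⁻¹)) = LinearMap.trace F₃ V (σ t) := by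
    rw [map_mul, LinearMap.trace_mul_comm, ← map_mul, show y⁻¹ * (y * t) = t by group]
  rw [e, map_neg] at h1
  exact (by decide : ∀ a : F₃, -a = a → a = 0) _ h1

theorem two_pow_mod_thirteen : ∀ k < 5, ∀ i < 5, 2 ^ k % 13 = 2 ^ i % 13 → i = k := by decide

/-- An automorphism of order thirteen of a group of order at most sixteen is trivial. -/
theorem fixed_thirteen {Q : Type*} [Group Q] [Finite Q] {k : ℕ} (hk : Nat.card Q = 2 ^ k) (hk4 : k ≤ 4)
    (θ : MulAut Q) (hθ : θ ^ 13 = 1) (c : Q) : θ c = c := by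
  classical
  have : Fact (Nat.Prime 13) := ⟨by norm_num⟩
  let Fx : Subgroup Q :=
    { carrier := {c | θ c = c}
      one_mem' := map_one θ
      mul_mem' := fun {a c} ha hc => by
        show θ (a * c) = a * c
        rw [map_mul, ha, hc]
      inv_mem' := fun {a} ha => by
        show θ a⁻¹ = a⁻¹
        rw [map_inv, ha] }
  have hP : IsPGroup 13 (Subgroup.zpowers θ) := by
    obtain ⟨j, -, hj⟩ := (Nat.dvd_prime_pow (by norm_num : Nat.Prime 13)).1 (show orderOf θ ∣ 13 ^ 1 by
      rw [pow_one]; exact orderOf_dvd_of_pow_eq_one hθ)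
    exact IsPGroup.of_card (n := j) (by rw [Nat.card_zpowers, hj])
  have hmod := hP.card_modEq_card_fixedPoints Q
  rw [Nat.card_congr (Equiv.subtypeEquivRight fun c => show
    c ∈ MulAction.fixedPoints (Subgroup.zpowers θ) Q ↔ c ∈ Fx from
    ⟨fun h => h ⟨θ, Subgroup.mem_zpowers θ⟩, fun h g => by
      obtain ⟨g, hg⟩ := g
      have hs : Subgroup.zpowers θ ≤ MulAction.stabilizer (MulAut Q) c := Subgroup.zpowers_le.2 h
      exact hs hg⟩)] at hmod
  have hFd : Nat.card Fx ∣ Nat.card Q := Subgroup.card_subgroup_dvd_card Fx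
  rw [hk] at hmod hFd
  obtain ⟨i, hik, hi⟩ := (Nat.dvd_prime_pow Nat.prime_two).1 hFd
  rw [hi] at hmod
  have hik' : i = k := two_pow_mod_thirteen k (by omega) i (by omega) hmod
  have : Fx = ⊤ := Subgroup.eq_top_of_card_eq _ (by rw [hi, hik', hk])
  exact show c ∈ Fx from this ▸ Subgroup.mem_top _

/-- The primes dividing `81 - 3 ^ j`. -/
theorem prime_cases {p : ℕ} (hp : p.Prime) (hp2 : p ≠ 2) (hp3 : p ≠ 3) {j : ℕ} (hj : j < 4)
    (h : p ∣ 81 - 3 ^ j) : p = 13 ∨ (p = 5 ∧ j = 0) := by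
  have key : ∀ q : ℕ, q.Prime → p ∣ q → p = q := fun q hq h => (Nat.prime_dvd_prime_iff_eq hp hq).1 h
  have h2 : ∀ n, p ∣ 2 ^ n → False := fun n h => hp2 (key 2 Nat.prime_two (hp.dvd_of_dvd_pow h))
  have h3 : ∀ n, p ∣ 3 ^ n → False := fun n h => hp3 (key 3 Nat.prime_three (hp.dvd_of_dvd_pow h))
  rcases (by omega : j = 0 ∨ j = 1 ∨ j = 2 ∨ j = 3) with rfl | rfl | rfl | rfl
  · rw [show 81 - 3 ^ 0 = 2 ^ 4 * 5 by norm_num, hp.dvd_mul] at h
    exact Or.inr ⟨key 5 (by norm_num) (h.resolve_left (h2 4)), rfl⟩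
  · rw [show 81 - 3 ^ 1 = 2 ^ 1 * (3 ^ 1 * 13) by norm_num, hp.dvd_mul, hp.dvd_mul] at h
    exact Or.inl (key 13 (by norm_num) ((h.resolve_left (h2 1)).resolve_left (h3 1)))
  · rw [show 81 - 3 ^ 2 = 2 ^ 3 * 3 ^ 2 by norm_num, hp.dvd_mul] at h
    exact absurd h (fun h => h.elim (h2 3) (h3 2))
  · rw [show 81 - 3 ^ 3 = 2 ^ 1 * 3 ^ 3 by norm_num, hp.dvd_mul] at h
    exact absurd h (fun h => h.elim (h2 1) (h3 3))

theorem pCore_two_normal : (Cfsg.pCore 2 H).Normal :=
  have : Fact (Nat.Prime 2) := ⟨Nat.prime_two⟩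
  (CfsgLib.sSup_prop_of_closed_sup (fun N : Subgroup H => N.Normal ∧ IsPGroup 2 N)
    ⟨inferInstance, IsPGroup.of_bot⟩ (fun _ _ => CfsgLib.pCore_mem_sup 2) (fun _ h => h)).1

theorem pCore_two_isPGroup : IsPGroup 2 ↥(Cfsg.pCore 2 H) :=
  have : Fact (Nat.Prime 2) := ⟨Nat.prime_two⟩
  CfsgLib.isPGroup_pCore 2

namespace Setting

variable (S : Setting σ R b)
include S

theorem comm_scalar
    (hm : ∀ A : Subgroup H, A.Normal → A ≤ R → (∀ x ∈ A, ∀ y ∈ A, x * y = y * x) →
      (∀ x ∈ A, x * x = 1) → ∀ w' ∈ A, ¬ Four b w') :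
    ∀ x ∈ Cfsg.pCore 2 H, ∀ y ∈ Cfsg.pCore 2 H, ⁅x, y⁆ ∈ scalars σ R := by
  classical
  have : Fact (Nat.Prime 2) := ⟨Nat.prime_two⟩
  set Z := scalars σ R with hZdef
  have hZn : Z.Normal := S.scalars_normal
  have hZc : ∀ z ∈ Z, ∀ h, h * z = z * h := fun z hz h => hz.2.comm S.faith h
  have hZ2 : ∀ z ∈ Z, z * z = 1 := fun z hz => hz.2.sq S.faith
  set T := Cfsg.pCore 2 H with hTdef
  have hTn : T.Normal := pCore_two_normal
  have hTp : IsPGroup 2 T := pCore_two_isPGroup
  have hcomm : ∀ x ∈ T, ∀ y ∈ T, ⁅x, y⁆ ∈ Z := by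
    have hn : (Z.subgroupOf T).Normal := hZn.subgroupOf T
    set q := QuotientGroup.mk' (Z.subgroupOf T) with hq
    have : Group.IsNilpotent (↥T ⧸ Z.subgroupOf T) := (hTp.to_quotient _).isNilpotent
    by_contra hcon
    push Not at hcon
    obtain ⟨x₀, hx₀, y₀, hy₀, hxy⟩ := hcon
    have hMne : (commutator T).map q ≠ ⊥ := by
      intro h
      apply hxy
      have h1 : q ⁅(⟨x₀, hx₀⟩ : T), ⟨y₀, hy₀⟩⁆ ∈ (commutator T).map q :=
        ⟨_, Subgroup.commutator_mem_commutator (Subgroup.mem_top _) (Subgroup.mem_top _), rfl⟩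
      rw [h, Subgroup.mem_bot, hq, QuotientGroup.mk'_apply, QuotientGroup.eq_one_iff,
        Subgroup.mem_subgroupOf] at h1
      exact h1
    have : ((commutator T).map q).Normal :=
      (inferInstance : (commutator T).Normal).map q (QuotientGroup.mk'_surjective _)
    obtain ⟨m, ⟨hm1, hm2⟩, hm3⟩ :=
      SetLike.exists_of_lt (bot_lt_iff_ne_bot.2 (CfsgLib.inf_center_ne_bot_of_nilpotent hMne))
    obtain ⟨c, hc, rfl⟩ := hm1
    -- `c` lies in the second centre and in the derived subgroup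
    let C2 : Subgroup H :=
      { carrier := {t | t ∈ T ∧ ∀ g ∈ T, ⁅t, g⁆ ∈ Z}
        one_mem' := ⟨T.one_mem, fun g _ => by simp [commutatorElement_def, Z.one_mem]⟩
        mul_mem' := by
          rintro s t ⟨hs, es⟩ ⟨ht, et⟩
          refine ⟨T.mul_mem hs ht, fun g hg => ?_⟩
          have h1 : ⁅s * t, g⁆ = (s * ⁅t, g⁆ * s⁻¹) * ⁅s, g⁆ := by
            simp only [commutatorElement_def]; group
          rw [h1]
          exact Z.mul_mem (hZn.conj_mem _ (et g hg) s) (es g hg)
        inv_mem' := by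
          rintro s ⟨hs, es⟩
          refine ⟨T.inv_mem hs, fun g hg => ?_⟩
          have h1 : ⁅s⁻¹, g⁆ = s⁻¹ * ⁅s, g⁆⁻¹ * s⁻¹⁻¹ := by
            simp only [commutatorElement_def]; group
          rw [h1]
          exact hZn.conj_mem _ (Z.inv_mem (es g hg)) _ }
    have hC2n : C2.Normal := ⟨fun t ht h => ⟨hTn.conj_mem t ht.1 h, fun g hg => by
      have hg' : h⁻¹ * g * h ∈ T := by simpa using hTn.conj_mem g hg h⁻¹
      have h1 : ⁅h * t * h⁻¹, g⁆ = h * ⁅t, h⁻¹ * g * h⁆ * h⁻¹ := by
        simp only [commutatorElement_def]; group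
      rw [h1]
      exact hZn.conj_mem _ (ht.2 _ hg') h⟩⟩
    set T' := (commutator T).map T.subtype with hT'
    have hT'n : T'.Normal := by
      rw [hT', commutator_def, Subgroup.map_commutator, ← MonoidHom.range_eq_map, Subgroup.range_subtype]
      exact Subgroup.commutator_normal T T
    set A := C2 ⊓ T' with hA
    have : A.Normal := Subgroup.normal_inf_normal C2 T'
    have hAab : ∀ s ∈ A, ∀ t ∈ A, s * t = t * s := by
      intro s hs t ht
      -- `g ↦ ⁅s, g⁆` kills commutators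
      let χ : ↥T →* ↥Z :=
        { toFun := fun g => ⟨⁅s, (g : H)⁆, hs.1.2 g g.2⟩
          map_one' := Subtype.ext (by simp [commutatorElement_def])
          map_mul' := fun g g' => Subtype.ext (by
            show ⁅s, (g : H) * g'⁆ = ⁅s, (g : H)⁆ * ⁅s, (g' : H)⁆
            have h1 : ⁅s, (g : H) * g'⁆ = ⁅s, (g : H)⁆ * ((g : H) * ⁅s, (g' : H)⁆ * (g : H)⁻¹) := by
              simp only [commutatorElement_def]; group
            rw [h1, hZc _ (hs.1.2 g' g'.2) g, mul_inv_cancel_right]) }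
      have hker : commutator T ≤ χ.ker := by
        rw [commutator_def, Subgroup.commutator_le]
        intro g _ g' _
        rw [MonoidHom.mem_ker, map_commutatorElement, commutatorElement_eq_one_iff_mul_comm]
        exact Subtype.ext (hZc _ (χ g').2 _)
      obtain ⟨t', ht', rfl⟩ := ht.2
      have h := congrArg Subtype.val (hker ht')
      exact commutatorElement_eq_one_iff_mul_comm.1 h
    have hAZ := S.abelian_scalar hm A hAab (hTp.to_le fun t ht => ht.1.1)
    apply hm3
    rw [Subgroup.mem_bot, hq, QuotientGroup.mk'_apply, QuotientGroup.eq_one_iff, Subgroup.mem_subgroupOf]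
    refine hAZ ⟨⟨c.2, fun g hg => ?_⟩, ⟨c, hc, rfl⟩⟩
    have h1 := Subgroup.mem_center_iff.1 hm2 (q ⟨g, hg⟩)
    have h2 : q ⁅c, ⟨g, hg⟩⁆ = 1 := by
      rw [map_commutatorElement]
      exact commutatorElement_eq_one_iff_mul_comm.2 h1.symm
    rw [hq, QuotientGroup.mk'_apply, QuotientGroup.eq_one_iff, Subgroup.mem_subgroupOf] at h2
    exact h2
  exact hcomm

theorem center_scalar
    (hm : ∀ A : Subgroup H, A.Normal → A ≤ R → (∀ x ∈ A, ∀ y ∈ A, x * y = y * x) →
      (∀ x ∈ A, x * x = 1) → ∀ w' ∈ A, ¬ Four b w') :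
    ∀ t ∈ Cfsg.pCore 2 H, (∀ g ∈ Cfsg.pCore 2 H, g * t = t * g) → t ∈ scalars σ R := by
  classical
  have : Fact (Nat.Prime 2) := ⟨Nat.prime_two⟩
  set Z := scalars σ R with hZdef
  have hZn : Z.Normal := S.scalars_normal
  have hZc : ∀ z ∈ Z, ∀ h, h * z = z * h := fun z hz h => hz.2.comm S.faith h
  have hZ2 : ∀ z ∈ Z, z * z = 1 := fun z hz => hz.2.sq S.faith
  set T := Cfsg.pCore 2 H with hTdef
  have hTn : T.Normal := pCore_two_normal
  have hTp : IsPGroup 2 T := pCore_two_isPGroup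
  intro t ht hc
  let A := T ⊓ Subgroup.centralizer (T : Set H)
  have : A.Normal := Subgroup.normal_inf_normal _ _
  refine S.abelian_scalar hm A (fun s hs r hr => ?_) (hTp.to_le inf_le_left) ⟨ht, ?_⟩
  · exact (Subgroup.mem_centralizer_iff.1 hs.2 r hr.1).symm
  · exact Subgroup.mem_centralizer_iff.2 hc

theorem sq_scalar
    (hm : ∀ A : Subgroup H, A.Normal → A ≤ R → (∀ x ∈ A, ∀ y ∈ A, x * y = y * x) →
      (∀ x ∈ A, x * x = 1) → ∀ w' ∈ A, ¬ Four b w') :
    ∀ t ∈ Cfsg.pCore 2 H, t * t ∈ scalars σ R := by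
  classical
  have : Fact (Nat.Prime 2) := ⟨Nat.prime_two⟩
  set Z := scalars σ R with hZdef
  have hZn : Z.Normal := S.scalars_normal
  have hZc : ∀ z ∈ Z, ∀ h, h * z = z * h := fun z hz h => hz.2.comm S.faith h
  have hZ2 : ∀ z ∈ Z, z * z = 1 := fun z hz => hz.2.sq S.faith
  set T := Cfsg.pCore 2 H with hTdef
  have hTn : T.Normal := pCore_two_normal
  have hTp : IsPGroup 2 T := pCore_two_isPGroup
  have hcomm := S.comm_scalar hm
  have hZT' := S.center_scalar hm
  intro t ht
  refine hZT' _ (T.mul_mem ht ht) fun g hg => ?_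
  have hz := hcomm g hg t ht
  have e1 : g * t = ⁅g, t⁆ * t * g := by rw [commutatorElement_def]; group
  calc g * (t * t) = (g * t) * t := by group
    _ = ⁅g, t⁆ * t * (g * t) := by rw [e1]; group
    _ = ⁅g, t⁆ * (t * ⁅g, t⁆) * t * g := by rw [e1]; group
    _ = (⁅g, t⁆ * ⁅g, t⁆) * (t * t * g) := by rw [hZc _ hz t]; group
    _ = t * t * g := by rw [hZ2 _ hz, one_mul]

theorem centralizer_scalar (F : Four b w)
    (hm : ∀ A : Subgroup H, A.Normal → A ≤ R → (∀ x ∈ A, ∀ y ∈ A, x * y = y * x) →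
      (∀ x ∈ A, x * x = 1) → ∀ w' ∈ A, ¬ Four b w') :
    ∀ r ∈ R, (∀ g ∈ Cfsg.pCore 2 H, g * r = r * g) → r ∈ scalars σ R := by
  classical
  have : Fact (Nat.Prime 2) := ⟨Nat.prime_two⟩
  set Z := scalars σ R with hZdef
  have hZn : Z.Normal := S.scalars_normal
  have hZc : ∀ z ∈ Z, ∀ h, h * z = z * h := fun z hz h => hz.2.comm S.faith h
  have hZ2 : ∀ z ∈ Z, z * z = 1 := fun z hz => hz.2.sq S.faith
  set T := Cfsg.pCore 2 H with hTdef
  have hTn : T.Normal := pCore_two_normal
  have hTp : IsPGroup 2 T := pCore_two_isPGroup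
  have hcomm := S.comm_scalar hm
  have hZT' := S.center_scalar hm
  set C := R ⊓ Subgroup.centralizer (T : Set H) with hC
  have := S.norm
  have hCn : C.Normal := Subgroup.normal_inf_normal _ _
  suffices hsuff : C ≤ Z from fun r hr h => hsuff ⟨hr, Subgroup.mem_centralizer_iff.2 h⟩
  by_contra hcon
  obtain ⟨n, hn⟩ := S.solv
  set D : ℕ → Subgroup H := fun i => ((derivedSeries ↥R i).map R.subtype) ⊓ C with hD
  have hDn : ∀ i, (D i).Normal := fun i => by
    have : ((derivedSeries ↥R i).map R.subtype).Normal := by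
      have : (derivedSeries ↥R i).Characteristic := derivedSeries_characteristic ↥R i
      exact ConjAct.normal_of_characteristic_of_normal
    exact Subgroup.normal_inf_normal _ _
  have hend : D n ≤ Z := fun x hx => by
    obtain ⟨y, hy, rfl⟩ := hx.1
    rw [hn, SetLike.mem_coe, Subgroup.mem_bot] at hy
    subst hy
    simp [Z.one_mem]
  have h0 : ¬ D 0 ≤ Z := fun h => hcon fun x hx => h ⟨⟨⟨x, hx.1⟩, by simp, rfl⟩, hx⟩
  obtain ⟨i, hi, hi1⟩ : ∃ i, ¬ D i ≤ Z ∧ D (i + 1) ≤ Z := by
    by_contra hall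
    push Not at hall
    have : ∀ i, ¬ D i ≤ Z := fun i => by
      induction i with
      | zero => exact h0
      | succ i ih => exact hall i ih
    exact this n hend
  have hDcomm : ∀ x ∈ D i, ∀ y ∈ D i, ⁅x, y⁆ ∈ Z := by
    intro x hx y hy
    refine hi1 ⟨?_, C.mul_mem (C.mul_mem (C.mul_mem hx.2 hy.2) (C.inv_mem hx.2)) (C.inv_mem hy.2)⟩
    obtain ⟨x', hx', rfl⟩ := hx.1
    obtain ⟨y', hy', rfl⟩ := hy.1
    exact ⟨⁅x', y'⁆, by rw [derivedSeries_succ]; exact Subgroup.commutator_mem_commutator hx' hy',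
      map_commutatorElement _ _ _⟩
  have hD2 : IsPGroup 2 (D i) := by
    rw [IsPGroup.iff_card]
    refine ⟨_, Nat.eq_prime_pow_of_unique_prime_dvd Nat.card_pos.ne' fun {p} hp hdvd => ?_⟩
    by_contra hp2
    have hdR : p ∣ Nat.card R :=
      hdvd.trans (Subgroup.card_dvd_of_le fun x hx => hx.2.1)
    have hp3 : p ≠ 3 := fun h => S.cop (h ▸ hdR)
    have : Fact p.Prime := ⟨hp⟩
    obtain ⟨x, hx⟩ := exists_prime_orderOf_dvd_card' p hdvd
    let A : Subgroup H :=
      { carrier := {g | g ∈ D i ∧ (∀ y ∈ D i, g * y = y * g) ∧ g ^ p = 1}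
        one_mem' := ⟨(D i).one_mem, by simp, one_pow p⟩
        mul_mem' := fun {g g'} hg hg' => ⟨(D i).mul_mem hg.1 hg'.1,
          fun y hy => by rw [mul_assoc, hg'.2.1 y hy, ← mul_assoc, hg.2.1 y hy, mul_assoc],
          by rw [(show Commute g g' from hg.2.1 g' hg'.1).mul_pow, hg.2.2, hg'.2.2, one_mul]⟩
        inv_mem' := fun {g} hg => ⟨(D i).inv_mem hg.1,
          fun y hy => ((show Commute g y from hg.2.1 y hy).inv_left).eq, by rw [inv_pow, hg.2.2, inv_one]⟩ }
    have : A.Normal := ⟨fun g hg h => ⟨(hDn i).conj_mem g hg.1 h, fun y hy => by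
      have h1 := hg.2.1 _ ((hDn i).conj_mem y hy h⁻¹)
      calc h * g * h⁻¹ * y = h * (g * (h⁻¹ * y * h⁻¹⁻¹)) * h⁻¹ := by group
        _ = h * ((h⁻¹ * y * h⁻¹⁻¹) * g) * h⁻¹ := by rw [h1]
        _ = y * (h * g * h⁻¹) := by group, by rw [conj_pow, hg.2.2]; group⟩⟩
    have hxA : (x : H) ∈ A := by
      refine ⟨x.2, fun y hy => ?_, by simpa [hx] using congrArg Subtype.val (pow_orderOf_eq_one x)⟩
      have hz := hDcomm x x.2 y hy
      set z := ⁅(x : H), y⁆ with hzd
      have e : ∀ m : ℕ, (x : H) ^ m * y = z ^ m * (y * (x : H) ^ m) := by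
        intro m
        induction m with
        | zero => simp
        | succ m ih =>
          calc (x : H) ^ (m + 1) * y = (x : H) * ((x : H) ^ m * y) := by rw [pow_succ', mul_assoc]
            _ = (x : H) * z ^ m * (y * (x : H) ^ m) := by rw [ih, mul_assoc]
            _ = z ^ m * ((x : H) * y) * (x : H) ^ m := by rw [hZc _ (Z.pow_mem hz m) x]; group
            _ = z ^ m * (z * y * x) * (x : H) ^ m := by
              rw [show z * y * x = (x : H) * y by rw [hzd, commutatorElement_def]; group]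
            _ = z ^ (m + 1) * (y * (x : H) ^ (m + 1)) := by rw [pow_succ z, pow_succ' (x : H)]; group
      have hp' := e p
      rw [show (x : H) ^ p = 1 by simpa [hx] using congrArg Subtype.val (pow_orderOf_eq_one x),
        one_mul, mul_one] at hp'
      have hz1 : z = 1 := orderOf_eq_one_iff.1 (Nat.eq_one_of_dvd_coprimes
        ((Nat.coprime_primes Nat.prime_two hp).2 (Ne.symm hp2))
        (orderOf_dvd_of_pow_eq_one (by rw [pow_two]; exact hZ2 z hz))
        (orderOf_dvd_of_pow_eq_one (right_eq_mul.1 hp')))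
      exact commutatorElement_eq_one_iff_mul_comm.1 hz1
    have hbot := S.odd_trivial F A (fun g hg g' hg' => hg.2.1 g' hg'.1) hp hp2 hp3
      (fun g => ⟨1, Subtype.ext (by simpa using g.2.2.2)⟩)
    rw [hbot, Subgroup.mem_bot] at hxA
    rw [show x = 1 from Subtype.ext hxA, orderOf_one] at hx
    exact hp.one_lt.ne hx
  apply hi
  intro x hx
  have hxT : x ∈ T := CfsgLib.le_pCore (hN := hDn i) hD2 hx
  exact hZT' x hxT fun g hg => Subgroup.mem_centralizer_iff.1 hx.2.2 g hg

theorem dim_four (F : Four b w) (hwR : w ∈ R)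
    (hm : ∀ A : Subgroup H, A.Normal → A ≤ R → (∀ x ∈ A, ∀ y ∈ A, x * y = y * x) →
      (∀ x ∈ A, x * x = 1) → ∀ w' ∈ A, ¬ Four b w') :
    Module.finrank F₃ V = 4 := by
  classical
  have : Fact (Nat.Prime 2) := ⟨Nat.prime_two⟩
  set Z := scalars σ R with hZdef
  have hZn : Z.Normal := S.scalars_normal
  have hZc : ∀ z ∈ Z, ∀ h, h * z = z * h := fun z hz h => hz.2.comm S.faith h
  have hZ2 : ∀ z ∈ Z, z * z = 1 := fun z hz => hz.2.sq S.faith
  set T := Cfsg.pCore 2 H with hTdef
  have hTn : T.Normal := pCore_two_normal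
  have hTp : IsPGroup 2 T := pCore_two_isPGroup
  have hcomm := S.comm_scalar hm
  have hZT' := S.center_scalar hm
  have hsq := S.sq_scalar hm
  have hCT := S.centralizer_scalar F hm
  -- `b` moves `T` modulo scalars
  have hwu : b * w * b⁻¹ ≠ w := F.ne
  obtain ⟨y, hyT, hyb⟩ : ∃ y ∈ T, y * (b * y⁻¹ * b⁻¹) ∉ Z := by
    by_contra hcon
    push Not at hcon
    have hcb : ∀ t ∈ T, b * t = t * b := by
      intro t ht
      have hz := hcon t⁻¹ (T.inv_mem ht)
      rw [inv_inv] at hz
      set z := t⁻¹ * (b * t * b⁻¹) with hzd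
      have h1 : b * t * b⁻¹ = t * z := by rw [hzd]; group
      clear_value z
      have hzfix : b * z * b⁻¹ = z := by rw [hZc z hz b, mul_inv_cancel_right]
      have h3 : b * (b * (b * t * b⁻¹) * b⁻¹) * b⁻¹ = t * (z * z * z) := by
        rw [h1, show b * (t * z) * b⁻¹ = (b * t * b⁻¹) * (b * z * b⁻¹) by group, h1, hzfix,
          show b * (t * z * z) * b⁻¹ = (b * t * b⁻¹) * (b * z * b⁻¹) * (b * z * b⁻¹) by group, h1, hzfix]
        group
      have hb3 : b * b * b = 1 := by rw [← S.b3]; simp [pow_succ]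
      rw [show b * (b * (b * t * b⁻¹) * b⁻¹) * b⁻¹ = (b * b * b) * t * (b * b * b)⁻¹ by group, hb3,
        hZ2 z hz, one_mul, one_mul, inv_one, mul_one] at h3
      rw [show z = 1 from left_eq_mul.1 h3, mul_one, mul_inv_eq_iff_eq_mul] at h1
      exact h1
    have hTc := S.central_of_normal T hcb
    have hwZ : w ∈ Z := hCT w hwR fun g hg => (hTc g hg w).symm
    apply hwu
    rw [hZc w hwZ b, mul_inv_cancel_right]
  set u := y * (b * y⁻¹ * b⁻¹) with hud
  have huT : u ∈ T := T.mul_mem hyT (hTn.conj_mem _ (T.inv_mem hyT) b)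
  set v := b * u * b⁻¹ with hvd
  have hvT : v ∈ T := hTn.conj_mem u huT b
  have huv : v * u⁻¹ ∉ Z := by
    intro hz
    set z := v * u⁻¹ with hzd
    have h1 : b * u * b⁻¹ = z * u := by rw [hzd, hvd]; group
    clear_value z
    have hzfix : b * z * b⁻¹ = z := by rw [hZc z hz b, mul_inv_cancel_right]
    have h2 : b * (b * u * b⁻¹) * b⁻¹ = u := by
      rw [h1, show b * (z * u) * b⁻¹ = (b * z * b⁻¹) * (b * u * b⁻¹) by group, h1, hzfix, ← mul_assoc,
        hZ2 z hz, one_mul]
    have hb3 : b * b * b = 1 := by rw [← S.b3]; simp [pow_succ]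
    have h3 : b * u * b⁻¹ = u := by
      calc b * u * b⁻¹ = b * (b * (b * u * b⁻¹) * b⁻¹) * b⁻¹ := by rw [h2]
        _ = (b * b * b) * u * (b * b * b)⁻¹ := by group
        _ = u := by rw [hb3]; group
    have h4 : u * u * u = 1 := by
      calc u * u * u = u * (b * u * b⁻¹) * (b * (b * u * b⁻¹) * b⁻¹) := by rw [h3, h3]
        _ = y * (b * b * b * y⁻¹ * (b * b * b)⁻¹) := by rw [hud]; group
        _ = 1 := by rw [hb3]; group
    have hu2 : u * u ∈ Z := hsq u huT
    have hu1 : u ∈ Z := by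
      have : u = (u * u)⁻¹ := eq_inv_of_mul_eq_one_right h4
      rw [this]; exact Z.inv_mem hu2
    exact hyb hu1
  -- dimension and sign facts
  have huZ : u ∉ Z := hyb
  have hvZ : v ∉ Z := fun h => huv (by
    have h' := hZn.conj_mem v h b⁻¹
    rw [inv_inv, show b⁻¹ * v * b = u by rw [hvd]; group] at h'
    exact Z.mul_mem h (Z.inv_mem h'))
  have hneg : ∀ s ∈ T, ∀ t ∈ T, s * t ≠ t * s → ∀ x, σ ⁅s, t⁆ x = -x := fun s hs t ht hne => by
    rcases (hcomm s hs t ht).2 with h | h
    · exact absurd (commutatorElement_eq_one_iff_mul_comm.1 (S.faith' h)) hne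
    · exact h
  set d := Module.finrank F₃ V with hd
  have hpart : ∀ t ∈ T, t ∉ Z → ∃ s ∈ T, s * t ≠ t * s := fun t ht htZ => by
    by_contra hcon
    push Not at hcon
    exact htZ (hZT' t ht hcon)
  obtain ⟨s₀, hs₀, hs₀u⟩ := hpart u huT huZ
  have hdeven : Even d := by
    have h := hneg s₀ hs₀ u huT hs₀u
    have e : σ ⁅s₀, u⁆ = (-1 : F₃) • LinearMap.id := LinearMap.ext fun x => by
      rw [h]; simp
    have h1 : LinearMap.det (σ ⁅s₀, u⁆) = 1 := by
      let δ : H →* F₃ := LinearMap.det.comp σ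
      show δ ⁅s₀, u⁆ = 1
      rw [commutatorElement_def, map_mul, map_mul, map_mul]
      calc δ s₀ * δ u * δ s₀⁻¹ * δ u⁻¹ = (δ s₀ * δ s₀⁻¹) * (δ u * δ u⁻¹) := by ring
        _ = 1 := by rw [← map_mul, ← map_mul, mul_inv_cancel, mul_inv_cancel, map_one, one_mul]
    rw [e, LinearMap.det_smul, LinearMap.det_id, mul_one, ← hd] at h1
    by_contra hodd
    rw [(Nat.not_even_iff_odd.1 hodd).neg_one_pow] at h1
    exact absurd h1 (by decide)
  obtain ⟨e, L⟩ := S.exists_lines F
  obtain ⟨e2w, e2u, e3w, e3u⟩ := L.eigen S F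
  have hd3 : 3 ≤ d := by
    let Φ : (Fin 3 → F₃) →ₗ[F₃] V := Fintype.linearCombination F₃ ![e, σ b e, σ b (σ b e)]
    have hΦ : Function.Injective Φ := LinearMap.ker_eq_bot.1 (LinearMap.ker_eq_bot'.2 fun c hc => by
      have h := hc
      simp [Φ, Fintype.linearCombination_apply, Fin.sum_univ_three] at h
      have h1 := congrArg (σ w) h
      simp only [map_add, map_smul, map_zero, L.w_e, e2w, e3w, smul_neg] at h1
      have a : c 0 • e + c 0 • e = 0 := by
        calc c 0 • e + c 0 • e = (c 0 • e + c 1 • σ b e + c 2 • σ b (σ b e)) +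
            (c 0 • e + -(c 1 • σ b e) + -(c 2 • σ b (σ b e))) := by abel
          _ = 0 := by rw [h, h1, add_zero]
      have a0 := eq_zero_of_eq_neg (eq_neg_of_add_eq_zero_left a)
      rw [a0, zero_add] at h
      have h2 := congrArg (σ (b * w * b⁻¹)) h
      simp only [map_add, map_smul, map_zero, e2u, e3u, smul_neg] at h2
      have c1 : c 1 • σ b e + c 1 • σ b e = 0 := by
        calc c 1 • σ b e + c 1 • σ b e = (c 1 • σ b e + c 2 • σ b (σ b e)) +
            (c 1 • σ b e + -(c 2 • σ b (σ b e))) := by abel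
          _ = 0 := by rw [h, h2, add_zero]
      have c10 := eq_zero_of_eq_neg (eq_neg_of_add_eq_zero_left c1)
      rw [c10, zero_add] at h
      funext i
      fin_cases i
      · exact (smul_eq_zero.1 a0).resolve_right L.ne
      · exact (smul_eq_zero.1 c10).resolve_right L.bne.1
      · exact (smul_eq_zero.1 h).resolve_right L.bne.2)
    have := LinearMap.finrank_le_finrank_of_injective hΦ
    rwa [Module.finrank_fin_fun] at this
  have hd5 : d ≤ 5 := by
    set X := LinearMap.ker (dd σ b) with hX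
    have hXd : d ≤ Module.finrank F₃ X + 2 := by
      have h1 := LinearMap.finrank_range_add_finrank_ker (dd σ b)
      have h2 := S.dimle
      rw [hd, hX]
      omega
    let X' := X.map (σ y)
    have hX'd : Module.finrank F₃ X' = Module.finrank F₃ X :=
      (Submodule.equivMapOfInjective (σ y) (fun p q h => by
        rw [← sigma_inv_self (σ := σ) y p, h, sigma_inv_self]) X).finrank_eq.symm
    have hfix : ∀ x, x ∈ X ⊓ X' → σ u x = x ∧ σ v x = x := by
      intro x hx
      have hxb : σ b x = x := by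
        have := hx.1
        rwa [hX, SetLike.mem_coe, LinearMap.mem_ker, dd_apply, sub_eq_zero] at this
      obtain ⟨x', hx', hxx⟩ := hx.2
      have hx'b : σ b x' = x' := by
        rwa [hX, SetLike.mem_coe, LinearMap.mem_ker, dd_apply, sub_eq_zero] at hx'
      have hbi : σ b⁻¹ x = x := by
        conv_lhs => rw [← hxb]
        exact sigma_inv_self b x
      have hu_x : σ u x = x := by
        rw [hud, ← mul_assoc, sigma_mul, hbi, sigma_mul, sigma_mul, ← hxx, sigma_inv_self, hx'b]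
      exact ⟨hu_x, by rw [hvd, sigma_mul, sigma_mul, hbi, hu_x, hxb]⟩
    have hdim : d ≤ Module.finrank F₃ (X ⊓ X' : Submodule F₃ V) + 4 := by
      have h1 := Submodule.finrank_sup_add_finrank_inf_eq X X'
      have h2 := (X ⊔ X').finrank_le
      rw [← hd] at h2
      omega
    have hzero : ∀ g : H, (∀ x, σ g x = -x) → (∀ x ∈ X ⊓ X', σ g x = x) →
        Module.finrank F₃ (X ⊓ X' : Submodule F₃ V) = 0 := by
      intro g hg hgx
      rw [Submodule.finrank_eq_zero, Submodule.eq_bot_iff]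
      intro x hx
      exact eq_zero_of_eq_neg ((hgx x hx).symm.trans (hg x))
    rcases (hsq u huT).2 with hu2 | hu2
    swap
    · have := hzero _ hu2 fun x hx => by rw [sigma_mul, (hfix x hx).1, (hfix x hx).1]
      omega
    by_cases hc : u * v = v * u
    swap
    · have := hzero _ (hneg u huT v hvT hc) fun x hx => by
        obtain ⟨a, c⟩ := hfix x hx
        have au : σ u⁻¹ x = x := by conv_lhs => rw [← a]; rw [sigma_inv_self]
        have cv : σ v⁻¹ x = x := by conv_lhs => rw [← c]; rw [sigma_inv_self]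
        rw [commutatorElement_def, sigma_mul, cv, sigma_mul, au, sigma_mul, c, a]
      omega
    -- two commuting involutions
    have anti : ∀ s ∈ T, ∀ g ∈ T, s * g ≠ g * s → ∀ x, σ g (σ s x) = -σ s (σ g x) := by
      intro s hs g hg hne x
      have h := hneg s hs g hg hne (σ g (σ s x))
      rw [← neg_eq_iff_eq_neg.2 h, commutatorElement_def]
      simp only [sigma_mul, sigma_inv_self]
    have comm' : ∀ s g, s * g = g * s → ∀ x, σ g (σ s x) = σ s (σ g x) := fun s g h x => by
      rw [← sigma_mul, ← h, sigma_mul]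
    have hprod : ∀ s t g : H, s ∈ T → t ∈ T → g ∈ T → s * g ≠ g * s → t * g ≠ g * t → (s * t) * g = g * (s * t) := by
      intro s t g hs ht hg h1 h2
      apply S.faith
      refine LinearMap.ext fun x => ?_
      simp only [sigma_mul]
      rw [anti s hs g hg h1, anti t ht g hg h2, map_neg, neg_neg]
    have hprod' : ∀ s t g : H, s ∈ T → g ∈ T → s * g ≠ g * s → t * g = g * t → (s * t) * g ≠ g * (s * t) := by
      intro s t g hs hg h1 h2 h3
      apply h1
      calc s * g = s * (g * t) * t⁻¹ := by group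
        _ = (s * t * g) * t⁻¹ := by rw [← h2]; group
        _ = g * s := by rw [h3]; group
    obtain ⟨s₁, hs₁T, hs₁u, hs₁v⟩ : ∃ s ∈ T, s * u ≠ u * s ∧ s * v = v * s := by
      by_contra hcon
      push Not at hcon
      obtain ⟨t, ht, htv⟩ := hpart v hvT hvZ
      obtain ⟨s, hs, hsu⟩ := hpart (v * u⁻¹) (T.mul_mem hvT (T.inv_mem huT)) huv
      have hsu' : ¬ (s * u = u * s ∧ s * v = v * s) := fun ⟨a, c⟩ =>
        hsu ((show Commute s v from c).mul_right (show Commute s u from a).inv_right).eq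
      have hsv0 := hcon s₀ hs₀ hs₀u
      by_cases ha : s * u = u * s
      · have hv' : s * v ≠ v * s := fun c => hsu' ⟨ha, c⟩
        exact hcon (s₀ * s) (T.mul_mem hs₀ hs) (hprod' s₀ s u hs₀ huT hs₀u ha) (hprod s₀ s v hs₀ hs hvT hsv0 hv')
      · have hv' := hcon s hs ha
        -- `s` anticommutes with both, so commutes with `v u⁻¹`
        apply hsu
        apply S.faith
        refine LinearMap.ext fun x => ?_
        have hui : u⁻¹ = u := inv_eq_of_mul_eq_one_right (S.faith' hu2)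
        simp only [sigma_mul, hui]
        rw [anti s hs u huT ha, map_neg, anti s hs v hvT hv', neg_neg]
    obtain ⟨s₂, hs₂T, hs₂v, hs₂u⟩ : ∃ s ∈ T, s * v ≠ v * s ∧ s * u = u * s := by
      obtain ⟨t, ht, htv⟩ := hpart v hvT hvZ
      by_cases htu : t * u = u * t
      · exact ⟨t, ht, htv, htu⟩
      · exact ⟨t * s₁, T.mul_mem ht hs₁T, hprod' t s₁ v ht hvT htv hs₁v, hprod t s₁ u ht hs₁T huT htu hs₁u⟩
    set W := X ⊓ X' with hW
    let Φ : (W × W) × (W × W) →ₗ[F₃] V :=
      ((W.subtype).coprod ((σ s₁).comp W.subtype)).coprod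
        (((σ s₂).comp W.subtype).coprod (((σ s₁).comp (σ s₂)).comp W.subtype))
    have hΦ : Function.Injective Φ := LinearMap.ker_eq_bot.1 (LinearMap.ker_eq_bot'.2 fun c hc => by
      obtain ⟨⟨a, p⟩, q, r⟩ := c
      have h : (a : V) + σ s₁ (p : V) + (σ s₂ (q : V) + σ s₁ (σ s₂ (r : V))) = 0 := hc
      have eu : ∀ x : W, σ u (x : V) = x := fun x => (hfix x x.2).1
      have ev : ∀ x : W, σ v (x : V) = x := fun x => (hfix x x.2).2
      have h1 := congrArg (σ u) h
      simp only [map_add, map_zero, eu, anti s₁ hs₁T u huT hs₁u, comm' s₂ u hs₂u, map_neg] at h1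
      have h2 := congrArg (σ v) h
      simp only [map_add, map_zero, ev, comm' s₁ v hs₁v, anti s₂ hs₂T v hvT hs₂v, map_neg] at h2
      have h3 := congrArg (σ v) h1
      simp only [map_add, map_zero, map_neg, ev, comm' s₁ v hs₁v, anti s₂ hs₂T v hvT hs₂v, neg_neg] at h3
      set A := (a : V)
      set P := σ s₁ (p : V)
      set Q := σ s₂ (q : V)
      set R' := σ s₁ (σ s₂ (r : V))
      have four : ∀ x : V, x + x + (x + x) = 0 → x = 0 := fun x hx => by
        have := three_smul_zero x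
        calc x = (x + x + (x + x)) - (x + x + x) := by abel
          _ = 0 := by rw [hx, this, sub_zero]
      have hA : A = 0 := four _ (by
        calc A + A + (A + A) = (A + P + (Q + R')) + (A + -P + (Q + -R')) + (A + P + (-Q + -R')) + (A + -P + (-Q + R')) := by abel
          _ = 0 := by rw [h, h1, h2, h3]; simp)
      have hP : P = 0 := four _ (by
        calc P + P + (P + P) = (A + P + (Q + R')) - (A + -P + (Q + -R')) + (A + P + (-Q + -R')) - (A + -P + (-Q + R')) := by abel
          _ = 0 := by rw [h, h1, h2, h3]; simp)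
      have hQ : Q = 0 := four _ (by
        calc Q + Q + (Q + Q) = (A + P + (Q + R')) + (A + -P + (Q + -R')) - (A + P + (-Q + -R')) - (A + -P + (-Q + R')) := by abel
          _ = 0 := by rw [h, h1, h2, h3]; simp)
      have hR : R' = 0 := by
        rw [hA, hP, hQ, zero_add, zero_add, zero_add] at h; exact h
      have inj : ∀ (g : H) (x : V), σ g x = 0 → x = 0 := fun g x hx => by
        rw [← sigma_inv_self (σ := σ) g x, hx, map_zero]
      exact Prod.ext (Prod.ext (Subtype.ext hA) (Subtype.ext (inj _ _ hP)))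
        (Prod.ext (Subtype.ext (inj _ _ hQ)) (Subtype.ext (inj _ _ (inj _ _ hR)))))
    have hle := LinearMap.finrank_le_finrank_of_injective hΦ
    rw [Module.finrank_prod, Module.finrank_prod, ← hd] at hle
    omega
  obtain ⟨k, hk⟩ := hdeven
  omega

theorem card_quot (hd4 : Module.finrank F₃ V = 4)
    (hm : ∀ A : Subgroup H, A.Normal → A ≤ R → (∀ x ∈ A, ∀ y ∈ A, x * y = y * x) →
      (∀ x ∈ A, x * x = 1) → ∀ w' ∈ A, ¬ Four b w') :
    Nat.card (↥(Cfsg.pCore 2 H) ⧸ (scalars σ R).subgroupOf (Cfsg.pCore 2 H)) ≤ 16 := by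
  classical
  have : Fact (Nat.Prime 2) := ⟨Nat.prime_two⟩
  set Z := scalars σ R with hZdef
  have hZn : Z.Normal := S.scalars_normal
  have hZc : ∀ z ∈ Z, ∀ h, h * z = z * h := fun z hz h => hz.2.comm S.faith h
  have hZ2 : ∀ z ∈ Z, z * z = 1 := fun z hz => hz.2.sq S.faith
  set T := Cfsg.pCore 2 H with hTdef
  have hTn : T.Normal := pCore_two_normal
  have hTp : IsPGroup 2 T := pCore_two_isPGroup
  have hcomm := S.comm_scalar hm
  have hZT' := S.center_scalar hm
  have hneg : ∀ s ∈ T, ∀ t ∈ T, s * t ≠ t * s → ∀ x, σ ⁅s, t⁆ x = -x := fun s hs t ht hne => by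
    rcases (hcomm s hs t ht).2 with h | h
    · exact absurd (commutatorElement_eq_one_iff_mul_comm.1 (S.faith' h)) hne
    · exact h
  have hpart : ∀ t ∈ T, t ∉ Z → ∃ s ∈ T, s * t ≠ t * s := fun t ht htZ => by
    by_contra hcon
    push Not at hcon
    exact htZ (hZT' t ht hcon)
  set d := Module.finrank F₃ V with hd
  have hKn : (Z.subgroupOf T).Normal := hZn.subgroupOf T
  set q := QuotientGroup.mk' (Z.subgroupOf T) with hq
  let s : ↥T ⧸ Z.subgroupOf T → H := fun c => (c.out : T)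
  have hind : LinearIndependent F₃ (fun c => σ (s c)) := by
    rw [linearIndependent_iff']
    intro I g hsum c hc
    have h := congrArg (fun f => LinearMap.trace F₃ V (σ (s c)⁻¹ * f)) hsum
    simp only [Finset.mul_sum, map_sum, mul_zero, map_zero, mul_smul_comm, map_smul, ← map_mul] at h
    rw [Finset.sum_eq_single c] at h
    · rw [inv_mul_cancel, map_one, LinearMap.trace_one, ← hd, hd4] at h
      simp only [smul_eq_mul] at h
      rw [show ((4 : ℕ) : F₃) = 1 from rfl, mul_one] at h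
      exact h
    · intro c' _ hne
      set t := (s c)⁻¹ * s c' with ht
      have htT : t ∈ T := T.mul_mem (T.inv_mem c.out.2) c'.out.2
      have htZ : t ∉ Z := by
        intro hz
        apply hne
        have : q c.out = q c'.out := by
          rw [hq, QuotientGroup.mk'_apply, QuotientGroup.mk'_apply, QuotientGroup.eq]
          exact Subgroup.mem_subgroupOf.2 hz
        rw [hq, QuotientGroup.mk'_apply, QuotientGroup.mk'_apply, QuotientGroup.out_eq',
          QuotientGroup.out_eq'] at this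
        exact this.symm
      obtain ⟨g', hg', hne'⟩ := hpart t htT htZ
      have : LinearMap.trace F₃ V (σ t) = 0 := trace_zero_of_anti (y := g') fun x => by
        rw [show g' * t * g'⁻¹ = ⁅g', t⁆ * t by rw [commutatorElement_def]; group, sigma_mul,
          hneg g' hg' t htT hne']
      rw [this, smul_zero]
    · exact fun h' => absurd hc h'
  have := Fintype.ofFinite (↥T ⧸ Z.subgroupOf T)
  have hle := hind.fintype_card_le_finrank
  rw [Module.finrank_linearMap, ← Nat.card_eq_fintype_card] at hle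
  rw [← hd, hd4] at hle
  exact hle

theorem no_thirteen (F : Four b w)
    (hm : ∀ A : Subgroup H, A.Normal → A ≤ R → (∀ x ∈ A, ∀ y ∈ A, x * y = y * x) →
      (∀ x ∈ A, x * x = 1) → ∀ w' ∈ A, ¬ Four b w')
    (hd4 : Module.finrank F₃ V = 4) {x : H} (hxR : x ∈ R) (hxp : x ^ 13 = 1) : x = 1 := by
  classical
  have : Fact (Nat.Prime 2) := ⟨Nat.prime_two⟩
  set Z := scalars σ R with hZdef
  have hZn : Z.Normal := S.scalars_normal
  have hZc : ∀ z ∈ Z, ∀ h, h * z = z * h := fun z hz h => hz.2.comm S.faith h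
  have hZ2 : ∀ z ∈ Z, z * z = 1 := fun z hz => hz.2.sq S.faith
  set T := Cfsg.pCore 2 H with hTdef
  have hTn : T.Normal := pCore_two_normal
  have hTp : IsPGroup 2 T := pCore_two_isPGroup
  have hcard16 := S.card_quot hd4 hm
  have hCT := S.centralizer_scalar F hm
  have : (Z.subgroupOf T).Normal := hZn.subgroupOf T
  let θ : MulAut (↥T ⧸ Z.subgroupOf T) :=
    QuotientGroup.congr _ _ (MulAut.conjNormal x) (by
      ext z
      simp only [Subgroup.mem_map, Subgroup.mem_subgroupOf, MonoidHom.coe_coe]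
      constructor
      · rintro ⟨a, ha, rfl⟩
        rw [MulAut.conjNormal_apply]
        exact hZn.conj_mem _ ha _
      · intro hz
        refine ⟨(MulAut.conjNormal x).symm z, ?_, MulEquiv.apply_symm_apply _ _⟩
        rw [MulAut.conjNormal_symm_apply]
        simpa using hZn.conj_mem _ hz x⁻¹)
  have hit : ∀ (n : ℕ) (t : T), (θ ^ n) (QuotientGroup.mk t) = QuotientGroup.mk (MulAut.conjNormal (x ^ n) t) := by
    intro n
    induction n with
    | zero => intro t; simp
    | succ n ih =>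
      intro t
      rw [pow_succ' θ, MulAut.mul_apply, ih t, pow_succ' x, map_mul]
      rfl
  have hθ : θ ^ 13 = 1 := by
    ext c
    obtain ⟨t, rfl⟩ := QuotientGroup.mk_surjective c
    rw [hit, hxp, map_one]; rfl
  obtain ⟨k, hk⟩ := (hTp.to_quotient (Z.subgroupOf T)).exists_card_eq
  have hk4 : k ≤ 4 := by
    rw [hk] at hcard16
    exact (Nat.pow_le_pow_iff_right (by norm_num : 1 < 2)).1 hcard16
  have htriv : ∀ t ∈ T, ⁅x, t⁆ ∈ Z := by
    intro t ht
    have hkey := fixed_thirteen hk hk4 θ hθ (QuotientGroup.mk ⟨t, ht⟩)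
    rw [show θ (QuotientGroup.mk (⟨t, ht⟩ : T)) = QuotientGroup.mk (MulAut.conjNormal x (⟨t, ht⟩ : T)) from rfl,
      QuotientGroup.eq, Subgroup.mem_subgroupOf] at hkey
    simp only [Subgroup.coe_mul, Subgroup.coe_inv, MulAut.conjNormal_apply] at hkey
    have hc := Z.inv_mem hkey
    rw [commutatorElement_def]
    have := hZn.conj_mem _ hc t
    rw [show t * ((x * t * x⁻¹)⁻¹ * t)⁻¹ * t⁻¹ = x * t * x⁻¹ * t⁻¹ by group] at this
    exact this
  have hxZ : x ∈ Z := hCT x hxR fun t ht => by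
    have hz := htriv t ht
    set z := ⁅x, t⁆ with hzd
    have e : ∀ m : ℕ, x ^ m * t = z ^ m * (t * x ^ m) := by
      intro m
      induction m with
      | zero => simp
      | succ m ih =>
        calc x ^ (m + 1) * t = x * (x ^ m * t) := by rw [pow_succ', mul_assoc]
          _ = x * z ^ m * (t * x ^ m) := by rw [ih, mul_assoc]
          _ = z ^ m * (x * t) * x ^ m := by rw [hZc _ (Z.pow_mem hz m) x]; group
          _ = z ^ m * (z * t * x) * x ^ m := by
            rw [show z * t * x = x * t by rw [hzd, commutatorElement_def]; group]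
          _ = z ^ (m + 1) * (t * x ^ (m + 1)) := by rw [pow_succ z, pow_succ' x]; group
    have h13 := e 13
    rw [hxp, one_mul, mul_one] at h13
    have hz1 : z = 1 := by
      have h := right_eq_mul.1 h13
      rwa [show (13 : ℕ) = 2 * 6 + 1 from rfl, pow_succ, pow_mul, pow_two, hZ2 z hz, one_pow, one_mul] at h
    exact (commutatorElement_eq_one_iff_mul_comm.1 hz1).symm
  calc x = x * (x * x) ^ 6 := by rw [hZ2 _ hxZ, one_pow, mul_one]
    _ = x ^ 13 := by rw [← pow_two, ← pow_mul, ← pow_succ']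
    _ = 1 := hxp

theorem no_five (hd4 : Module.finrank F₃ V = 4)
    (key5 : ∀ g : H, g ^ 5 = 1 → g ≠ 1 → ∀ z, σ g z = z → z = 0) : ¬ 5 ∣ Nat.card R := by
  classical
  intro hdvd
  have : Fact (Nat.Prime 5) := ⟨by norm_num⟩
  have hV81 : Nat.card V = 81 := by
    rw [Module.natCard_eq_pow_finrank (K := F₃), hd4, Nat.card_zmod]; norm_num
  -- a Sylow subgroup normalised by `b`
  have := S.norm
  let τ : MulAut R := MulAut.conjNormal b
  have hτ3 : τ ^ 3 = 1 := by rw [← map_pow, S.b3, map_one]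
  let ρ : Equiv.Perm (Sylow 5 R) :=
    MulAction.toPermHom (MulAut R) (Sylow 5 R) τ
  have hρ : ρ ^ 3 = 1 := by rw [← map_pow, hτ3, map_one]
  have hP3 : IsPGroup 3 (Subgroup.zpowers ρ) := by
    obtain ⟨j, -, hj⟩ := (Nat.dvd_prime_pow Nat.prime_three).1 (show orderOf ρ ∣ 3 ^ 1 by
      rw [pow_one]; exact orderOf_dvd_of_pow_eq_one hρ)
    exact IsPGroup.of_card (n := j) (by rw [Nat.card_zpowers, hj])
  have : Fact (Nat.Prime 3) := ⟨Nat.prime_three⟩
  have hnd : ¬ 3 ∣ Nat.card (Sylow 5 R) := fun h => S.cop (h.trans (by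
    rw [Sylow.card_eq_index_normalizer (default : Sylow 5 R)]
    exact Subgroup.index_dvd_card _))
  obtain ⟨P, hP⟩ := hP3.nonempty_fixed_point_of_prime_not_dvd_card (Sylow 5 R) hnd
  have hPfix : τ • P = P := hP ⟨ρ, Subgroup.mem_zpowers ρ⟩
  -- it is cyclic of order five
  set Pm := (P : Subgroup R).map R.subtype with hPm
  have hPm5 : IsPGroup 5 Pm := P.isPGroup'.map _
  have hfree : ∀ g ∈ Pm, g ≠ 1 → ∀ z, σ g z = z → z = 0 := by
    intro g hg hg1 z hz
    obtain ⟨k, hk⟩ := hPm5 ⟨g, hg⟩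
    have hk' : g ^ (5 ^ k) = 1 := by simpa using congrArg Subtype.val hk
    have hex : ∃ j, g ^ (5 ^ j) = 1 := ⟨k, hk'⟩
    obtain ⟨i, hi⟩ : ∃ i, Nat.find hex = i + 1 := by
      rcases hfind : Nat.find hex with _ | i
      · have := Nat.find_spec hex
        rw [hfind, pow_zero, pow_one] at this
        exact absurd this hg1
      · exact ⟨i, rfl⟩
    refine key5 (g ^ (5 ^ i)) ?_ (Nat.find_min hex (by omega)) z ?_
    · have := Nat.find_spec hex
      rwa [hi, pow_succ, pow_mul] at this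
    · generalize 5 ^ i = m
      induction m with
      | zero => rw [pow_zero, map_one]; rfl
      | succ m ih => rw [pow_succ, sigma_mul, hz, ih]
  have hle5 : Nat.card Pm ≤ 5 := by
    obtain ⟨k, hk⟩ := hPm5.exists_card_eq
    -- orbits are regular
    let act : MulAction Pm V :=
      { smul := fun g z => σ (g : H) z
        one_smul := fun z => by show σ ((1 : Pm) : H) z = z; rw [Subgroup.coe_one, map_one]; rfl
        mul_smul := fun g g' z => sigma_mul (g : H) (g' : H) z }
    let N0 : Type _ := {z : V // z ≠ 0}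
    let act0 : MulAction Pm N0 :=
      { smul := fun g z => ⟨σ (g : H) z.1, fun h => z.2 (by rw [← sigma_inv_self (σ := σ) (g : H) z.1, h, map_zero])⟩
        one_smul := fun z => Subtype.ext (by show σ ((1 : Pm) : H) z.1 = z.1; rw [Subgroup.coe_one, map_one]; rfl)
        mul_smul := fun g g' z => Subtype.ext (sigma_mul (g : H) (g' : H) z.1) }
    have hstab : ∀ z : N0, MulAction.stabilizer Pm z = ⊥ := fun z => by
      rw [eq_bot_iff]
      intro g hg
      by_contra hg1
      exact z.2 (hfree g g.2 (fun h => hg1 (Subgroup.mem_bot.2 (Subtype.ext h))) z.1 (congrArg Subtype.val hg))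
    have hdvd : Nat.card Pm ∣ Nat.card N0 := by
      have := Fintype.ofFinite (MulAction.orbitRel.Quotient Pm N0)
      rw [Nat.card_congr (MulAction.selfEquivSigmaOrbits Pm N0), Nat.card_sigma]
      refine Finset.dvd_sum fun o _ => ?_
      rw [Nat.card_congr (MulAction.orbitEquivQuotientStabilizer Pm _), hstab, ← Subgroup.index_eq_card,
        Subgroup.index_bot]
    have hN0 : Nat.card N0 = 80 := by
      have h := Set.ncard_add_ncard_compl ({0} : Set V)
      rw [Set.ncard_singleton, hV81] at h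
      show Nat.card ({0}ᶜ : Set V) = 80
      rw [Nat.card_coe_set_eq]
      omega
    rw [hk, hN0] at hdvd
    rw [hk]
    rcases k with _ | _ | k
    · norm_num
    · norm_num
    · exfalso
      have : 5 ^ 2 ∣ 80 := (pow_dvd_pow 5 (by omega)).trans hdvd
      norm_num at this
  have hP5 : Nat.card Pm = 5 := by
    refine le_antisymm hle5 ?_
    rw [hPm, Subgroup.card_map_of_injective R.subtype_injective]
    exact Nat.le_of_dvd Nat.card_pos (P.dvd_card_of_dvd_card hdvd)
  obtain ⟨g, hg, hg1⟩ : ∃ g ∈ Pm, g ≠ 1 := by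
    by_contra hcon
    push Not at hcon
    rw [show Pm = ⊥ from eq_bot_iff.2 fun g hg => Subgroup.mem_bot.2 (hcon g hg), Subgroup.card_bot] at hP5
    norm_num at hP5
  have hgen : Subgroup.zpowers g = Pm := by
    refine Subgroup.eq_of_le_of_card_ge (Subgroup.zpowers_le.2 hg) ?_
    rw [hP5, Nat.card_zpowers, orderOf_eq_prime (p := 5) ?_ hg1]
    have := hP5 ▸ pow_card_eq_one' (x := (⟨g, hg⟩ : Pm))
    simpa using congrArg Subtype.val this
  have hconj : b * g * b⁻¹ ∈ Pm := by
    obtain ⟨g', hg', rfl⟩ := hg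
    refine ⟨τ g', ?_, MulAut.conjNormal_apply _ _⟩
    have h : τ g' ∈ ((τ • P : Sylow 5 R) : Subgroup R) := Subgroup.smul_mem_pointwise_smul g' τ _ hg'
    rwa [hPfix] at h
  have hg5 : g ^ 5 = 1 := by
    have := hP5 ▸ pow_card_eq_one' (x := (⟨g, hg⟩ : Pm))
    simpa using congrArg Subtype.val this
  have hbg : b * g = g * b := by
    rw [← hgen, ← Subgroup.mem_carrier] at hconj
    obtain ⟨j, hj⟩ := hconj
    have hj' : b * g * b⁻¹ = g ^ (j % 5).toNat := by
      rw [← hj, ← zpow_natCast, Int.toNat_of_nonneg (Int.emod_nonneg _ (by norm_num))]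
      show g ^ j = _
      conv_lhs => rw [← Int.mul_ediv_add_emod j 5, zpow_add, zpow_mul, show (5 : ℤ) = ((5 : ℕ) : ℤ) from rfl,
        zpow_natCast, hg5, one_zpow, one_mul]
      rfl
    set m := (j % 5).toNat with hm'
    have hm5 : m < 5 := by omega
    clear_value m
    have h3 : g = g ^ (m * m * m) := by
      have e : ∀ n : ℕ, b * g ^ n * b⁻¹ = g ^ (m * n) := fun n => by
        rw [← conj_pow, hj', ← pow_mul]
      have hb3 : b * b * b = 1 := by rw [← S.b3]; simp [pow_succ]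
      calc g = (b * b * b) * g * (b * b * b)⁻¹ := by rw [hb3]; group
        _ = b * (b * (b * g * b⁻¹) * b⁻¹) * b⁻¹ := by group
        _ = g ^ (m * m * m) := by rw [hj', e, e, mul_assoc]
    have h4 : m * m * m % 5 = 1 := by
      have := (pow_inj_mod (x := g) (n := m * m * m) (m := 1)).1 (by rw [pow_one]; exact h3.symm)
      rwa [orderOf_eq_prime hg5 hg1] at this
    interval_cases m <;> norm_num at h4
    rw [pow_one, mul_inv_eq_iff_eq_mul] at hj'
    exact hj'
  -- an eigenvector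
  obtain ⟨z, hz0, s, hs0, hzs⟩ : ∃ z, z ≠ 0 ∧ ∃ s : F₃, s ≠ 0 ∧ σ g z = s • z := by
    obtain ⟨v₀, hv₀⟩ := S.cubic
    set z := dd σ b (dd σ b v₀) with hz
    set P2 := (LinearMap.range (dd σ b)).map (dd σ b) with hP2
    have hgP : σ g z ∈ P2 := ⟨dd σ b (σ g v₀), ⟨_, rfl⟩, by
      simp only [hz, dd_apply, map_sub, ← sigma_mul, ← mul_assoc, hbg]⟩
    have hlt : Module.finrank F₃ P2 ≤ 1 := by
      have h1 : Module.finrank F₃ P2 < Module.finrank F₃ (LinearMap.range (dd σ b)) :=
        Submodule.finrank_lt_finrank_of_lt (lt_of_le_of_ne (by rintro _ ⟨a, -, rfl⟩; exact ⟨a, rfl⟩)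
          fun hEq => hv₀ (by
            have : dd σ b v₀ ∈ P2 := by rw [hEq]; exact ⟨v₀, rfl⟩
            obtain ⟨a, ⟨a', rfl⟩, ha⟩ := this
            rw [hz, ← ha]; exact S.dd_cube a'))
      have := S.dimle
      omega
    obtain ⟨p0, hp0⟩ := finrank_le_one_iff.1 hlt
    obtain ⟨c0, hc0⟩ := hp0 ⟨z, ⟨dd σ b v₀, ⟨v₀, rfl⟩, rfl⟩⟩
    obtain ⟨c, hc⟩ := hp0 ⟨σ g z, hgP⟩
    have e0 : c0 • (p0 : V) = z := congrArg Subtype.val hc0
    have e1 : c • (p0 : V) = σ g z := congrArg Subtype.val hc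
    have hc00 : c0 ≠ 0 := fun h => hv₀ (by rw [h, zero_smul] at e0; exact e0.symm)
    refine ⟨z, hv₀, c * c0⁻¹, fun h => ?_, by rw [← e0, smul_smul, inv_mul_cancel_right₀ hc00, e1, e0]⟩
    rw [(mul_eq_zero.1 h).resolve_right (inv_ne_zero hc00), zero_smul] at e1
    exact hv₀ (by rw [← sigma_inv_self (σ := σ) g z, ← e1, map_zero])
  apply hz0
  apply key5 g hg5 hg1
  rcases unit_cases s hs0 with h | h
  · rw [hzs, h, one_smul]
  · exfalso
    have hzm : σ g z = -z := by rw [hzs, h, neg_one_smul]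
    have h5 : σ (g ^ 5) z = -z := by
      simp only [pow_succ, pow_zero, one_mul, sigma_mul, hzm, map_neg, neg_neg]
    rw [hg5, map_one] at h5
    exact neg_ne_self hz0 h5.symm

theorem two_group (F : Four b w) (hwR : w ∈ R)
    (hm : ∀ A : Subgroup H, A.Normal → A ≤ R → (∀ x ∈ A, ∀ y ∈ A, x * y = y * x) →
      (∀ x ∈ A, x * x = 1) → ∀ w' ∈ A, ¬ Four b w') : IsPGroup 2 R := by
  classical
  have hd4 := S.dim_four F hwR hm
  have hV81 : Nat.card V = 81 := by
    rw [Module.natCard_eq_pow_finrank (K := F₃), hd4, Nat.card_zmod]; norm_num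
  have key : ∀ {p : ℕ} (hp : p.Prime), p ≠ 2 → p ≠ 3 → ∀ g : H, g ^ p = 1 → g ≠ 1 →
      p = 13 ∨ (p = 5 ∧ ∀ z, σ g z = z → z = 0) := by
    intro p hp hp2 hp3 g hgp hg1
    have : Fact p.Prime := ⟨hp⟩
    have hperm : ∀ P : Subgroup H, IsPGroup p P → ∀ (W : Submodule F₃ V),
        (∀ x, x ∈ W ↔ ∀ g ∈ P, σ g x = x) → Nat.card V ≡ Nat.card W [MOD p] := by
      intro P hP W hW
      let act : MulAction P V :=
        { smul := fun g x => σ (g : H) x
          one_smul := fun x => by show σ ((1 : P) : H) x = x; rw [Subgroup.coe_one, map_one]; rfl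
          mul_smul := fun g g' x => sigma_mul (g : H) (g' : H) x }
      have := hP.card_modEq_card_fixedPoints V
      rwa [Nat.card_congr (Equiv.subtypeEquivRight fun x => show x ∈ MulAction.fixedPoints P V ↔ x ∈ W by
        rw [hW]; exact ⟨fun h g hg => h ⟨g, hg⟩, fun h g => h g g.2⟩)] at this
    have hP : IsPGroup p (Subgroup.zpowers g) :=
      IsPGroup.of_card (n := 1) (by rw [Nat.card_zpowers, orderOf_eq_prime hgp hg1, pow_one])
    set W := LinearMap.ker (σ g - LinearMap.id) with hW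
    have hWm : ∀ z, z ∈ W ↔ σ g z = z := fun z => by simp [hW, sub_eq_zero]
    have hmod := hperm _ hP W fun z => by
      rw [hWm]
      refine ⟨fun h => ?_, fun h => h g (Subgroup.mem_zpowers g)⟩
      rintro _ ⟨j, rfl⟩
      have h' : σ g⁻¹ z = z := by conv_lhs => rw [← h]; rw [sigma_inv_self]
      show σ (g ^ j) z = z
      induction j using Int.induction_on with
      | zero => rw [zpow_zero, map_one]; rfl
      | succ n ih => rw [zpow_add_one, sigma_mul, h, ih]
      | pred n ih => rw [zpow_sub_one, sigma_mul, h', ih]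
    have hlt : W < ⊤ := lt_top_iff_ne_top.2 fun h => hg1 (S.faith' fun z => (hWm z).1 (h ▸ Submodule.mem_top))
    have hj := Submodule.finrank_lt hlt.ne
    rw [hd4] at hj
    rw [hV81, Module.natCard_eq_pow_finrank (K := F₃) (V := W), Nat.card_zmod] at hmod
    have hdv : p ∣ 81 - 3 ^ Module.finrank F₃ W :=
      (Nat.modEq_iff_dvd' (by
        calc 3 ^ Module.finrank F₃ W ≤ 3 ^ 4 := Nat.pow_le_pow_right (by norm_num) (by omega)
          _ = 81 := by norm_num)).1 hmod.symm
    rcases prime_cases hp hp2 hp3 hj hdv with h | ⟨h, h0⟩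
    · exact Or.inl h
    · refine Or.inr ⟨h, fun z hz => ?_⟩
      have h0 := Submodule.finrank_eq_zero.1 h0
      have := (hWm z).2 hz
      rwa [h0, Submodule.mem_bot] at this
  rw [IsPGroup.iff_card]
  refine ⟨_, Nat.eq_prime_pow_of_unique_prime_dvd Nat.card_pos.ne' fun {p} hp hdvd => ?_⟩
  by_contra hp2
  have hp3 : p ≠ 3 := fun h => S.cop (h ▸ hdvd)
  have : Fact p.Prime := ⟨hp⟩
  obtain ⟨x, hx⟩ := exists_prime_orderOf_dvd_card' p hdvd
  have hxp : (x : H) ^ p = 1 := by simpa [hx] using congrArg Subtype.val (pow_orderOf_eq_one x)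
  have hx1 : (x : H) ≠ 1 := fun h => by
    rw [show x = 1 from Subtype.ext h, orderOf_one] at hx
    exact hp.one_lt.ne hx
  rcases key hp hp2 hp3 x hxp hx1 with h13 | ⟨h5, -⟩
  · subst h13
    exact hx1 (S.no_thirteen F hm hd4 x.2 hxp)
  · subst h5
    refine S.no_five hd4 (fun g h h' => ?_) hdvd
    rcases key hp hp2 hp3 g h h' with a | ⟨-, a⟩
    · norm_num at a
    · exact a

theorem impossible (F : Four b w) (hwR : w ∈ R)
    (hm : ∀ A : Subgroup H, A.Normal → A ≤ R → (∀ x ∈ A, ∀ y ∈ A, x * y = y * x) →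
      (∀ x ∈ A, x * x = 1) → ∀ w' ∈ A, ¬ Four b w') : False := by
  classical
  have : Fact (Nat.Prime 2) := ⟨Nat.prime_two⟩
  set Z := scalars σ R with hZdef
  have hZn : Z.Normal := S.scalars_normal
  have hZc : ∀ z ∈ Z, ∀ h, h * z = z * h := fun z hz h => hz.2.comm S.faith h
  have hZ2 : ∀ z ∈ Z, z * z = 1 := fun z hz => hz.2.sq S.faith
  set T := Cfsg.pCore 2 H with hTdef
  have hTn : T.Normal := pCore_two_normal
  have hTp : IsPGroup 2 T := pCore_two_isPGroup
  have hcomm := S.comm_scalar hm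
  have hR2 := S.two_group F hwR hm
  -- the contradiction
  have hRT : R ≤ T := CfsgLib.le_pCore (hN := S.norm) hR2
  set u' := b * w * b⁻¹ with hu'
  have hu'R : u' ∈ R := S.norm.conj_mem w hwR b
  let A := Subgroup.closure ({w, u'} ∪ (Z : Set H))
  have hgenc : ∀ p ∈ ({w, u'} ∪ (Z : Set H) : Set H), ∀ p' ∈ ({w, u'} ∪ (Z : Set H) : Set H), p * p' = p' * p := by
    rintro p (hp | hp) p' (hp' | hp')
    · rcases hp with rfl | rfl <;> rcases hp' with rfl | rfl
      · rfl
      · exact F.com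
      · exact F.com.symm
      · rfl
    · exact hZc p' hp' p
    · exact (hZc p hp p').symm
    · exact hZc p' hp' p
  have hgR : ∀ p ∈ ({w, u'} ∪ (Z : Set H) : Set H), p ∈ R ∧ p * p = 1 := by
    rintro p ((rfl | rfl) | hp)
    · exact ⟨hwR, F.sq⟩
    · exact ⟨hu'R, F.rot.sq⟩
    · exact ⟨hp.1, hZ2 p hp⟩
  have hAR : A ≤ R := (Subgroup.closure_le _).2 fun p hp => (hgR p hp).1
  have hZA : Z ≤ A := fun z hz => Subgroup.subset_closure (Or.inr hz)
  have hAab : ∀ p ∈ A, ∀ p' ∈ A, p * p' = p' * p := by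
    intro p hp p' hp'
    induction hp, hp' using Subgroup.closure_induction₂ with
    | mem p p' h h' => exact hgenc p h p' h'
    | one_left p' h => simp
    | one_right p h => simp
    | mul_left p q r _ _ _ h1 h2 => exact ((show Commute p r from h1).mul_left h2).eq
    | mul_right p q r _ _ _ h1 h2 => exact ((show Commute r p from h1).mul_right h2).eq
    | inv_left p q _ _ h => exact (show Commute p q from h).inv_left.eq
    | inv_right p q _ _ h => exact (show Commute p q from h).inv_right.eq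
  have hA2 : ∀ p ∈ A, p * p = 1 := by
    intro p hp
    induction hp using Subgroup.closure_induction with
    | mem p h => exact (hgR p h).2
    | one => simp
    | mul p q hp hq h1 h2 =>
      calc p * q * (p * q) = p * (q * p) * q := by group
        _ = p * (p * q) * q := by rw [hAab q hq p hp]
        _ = (p * p) * (q * q) := by group
        _ = 1 := by rw [h1, h2, one_mul]
    | inv p _ h => rw [← mul_inv_rev, h, inv_one]
  have hAn : A.Normal := by
    haveI := S.norm
    have hb : ∀ p ∈ A, b * p * b⁻¹ ∈ A := by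
      intro p hp
      induction hp using Subgroup.closure_induction with
      | mem p h =>
        rcases h with (rfl | rfl) | h
        · exact Subgroup.subset_closure (Or.inl (Or.inr rfl))
        · rw [← F.rel]
          exact A.mul_mem (Subgroup.subset_closure (Or.inl (Or.inl rfl))) (Subgroup.subset_closure (Or.inl (Or.inr rfl)))
        · exact hZA (hZn.conj_mem p h b)
      | one => simp [A.one_mem]
      | mul p q _ _ h1 h2 =>
        rw [show b * (p * q) * b⁻¹ = (b * p * b⁻¹) * (b * q * b⁻¹) by group]; exact A.mul_mem h1 h2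
      | inv p _ h =>
        rw [show b * p⁻¹ * b⁻¹ = (b * p * b⁻¹)⁻¹ by group]; exact A.inv_mem h
    have hr : ∀ r ∈ R, ∀ p ∈ A, r * p * r⁻¹ ∈ A := fun r hr p hp => by
      rw [show r * p * r⁻¹ = ⁅r, p⁆ * p by rw [commutatorElement_def]; group]
      exact A.mul_mem (hZA (hcomm r (hRT hr) p (hRT (hAR hp)))) hp
    refine ⟨fun p hp g => ?_⟩
    have hg : g ∈ ((R ⊔ Subgroup.zpowers b : Subgroup H) : Set H) := by rw [S.gen]; trivial
    rw [Subgroup.normal_mul] at hg
    obtain ⟨r, hrR, _, ⟨j, rfl⟩, rfl⟩ := hg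
    have hbj : ∀ p ∈ A, b ^ j * p * (b ^ j)⁻¹ ∈ A := by
      induction j using Int.induction_on with
      | zero => intro p hp; simpa using hp
      | succ n ih =>
        intro p hp
        rw [zpow_add_one, show b ^ (n : ℤ) * b * p * (b ^ (n : ℤ) * b)⁻¹ =
          b ^ (n : ℤ) * (b * p * b⁻¹) * (b ^ (n : ℤ))⁻¹ by group]
        exact ih _ (hb p hp)
      | pred n ih =>
        intro p hp
        have hinv : b⁻¹ = b * b := by
          rw [inv_eq_iff_mul_eq_one, ← S.b3]; simp [pow_succ, mul_assoc]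
        rw [zpow_sub_one, show b ^ (-(n : ℤ)) * b⁻¹ * p * (b ^ (-(n : ℤ)) * b⁻¹)⁻¹ =
          b ^ (-(n : ℤ)) * (b⁻¹ * p * b⁻¹⁻¹) * (b ^ (-(n : ℤ)))⁻¹ by group, hinv,
          show b * b * p * (b * b)⁻¹ = b * (b * p * b⁻¹) * b⁻¹ by group]
        exact ih _ (hb _ (hb p hp))
    have := hr r hrR _ (hbj p hp)
    rwa [show r * (b ^ j * p * (b ^ j)⁻¹) * r⁻¹ = r * b ^ j * p * (r * b ^ j)⁻¹ by group] at this
  exact hm A hAn hAR hAab hA2 w (Subgroup.subset_closure (Or.inl (Or.inl rfl))) F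

end Setting

end Cfsg.Agent.JordanThree
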