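/-
The module splits as the fixed space of `R` and a faithful irreducible `R⟨b⟩`-space.
-/
import Cfsg.Agent.Lib.JordanThree.Reduce

set_option autoImplicit false

namespace Cfsg.Agent.JordanThree

open scoped commutatorElement

local notation "F₃" => ZMod 3

variable {S E : Type*} [Group S] [AddCommGroup E] [Module (ZMod 3) E]
variable (ρ : Representation (ZMod 3) S E) (R : Subgroup S)

/-- The common fixed vectors of `R`. -/
def fixSpace : Submodule F₃ E where
  carrier := {v | ∀ r ∈ R, ρ r v = v}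
  zero_mem' := fun r _ => map_zero _
  add_mem' := fun {u v} hu hv r hr => by rw [map_add, hu r hr, hv r hr]
  smul_mem' := fun c v hv r hr => by rw [map_smul, hv r hr]

/-- The average over `R`. -/
noncomputable def avg [Fintype R] : E →ₗ[F₃] E :=
  (Nat.card R : F₃)⁻¹ • ∑ r : R, ρ (r : S)

variable {ρ R}

theorem avg_apply [Fintype R] (v : E) : avg ρ R v = (Nat.card R : F₃)⁻¹ • ∑ r : R, ρ (r : S) v := by
  simp [avg, LinearMap.sum_apply]

theorem avg_fixed [Fintype R] (v : E) : avg ρ R v ∈ fixSpace ρ R := by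
  intro r hr
  rw [avg_apply, map_smul, map_sum]
  congr 1
  refine Fintype.sum_equiv (Equiv.mulLeft (⟨r, hr⟩ : R)) _ _ fun x => ?_
  rw [← sigma_mul]; rfl

theorem avg_eq_self [Fintype R] (hcop : ¬ 3 ∣ Nat.card R) {v : E} (hv : v ∈ fixSpace ρ R) : avg ρ R v = v := by
  rw [avg_apply, Finset.sum_congr rfl (fun (x : R) _ => hv x x.2), Finset.sum_const, Finset.card_univ,
    ← Nat.card_eq_fintype_card, ← Nat.cast_smul_eq_nsmul F₃, smul_smul,
    inv_mul_cancel₀ (fun h => hcop ((ZMod.natCast_eq_zero_iff _ _).1 h)), one_smul]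

theorem avg_absorb [Fintype R] {r : S} (hr : r ∈ R) (v : E) : avg ρ R (ρ r v) = avg ρ R v := by
  rw [avg_apply, avg_apply]
  congr 1
  refine Fintype.sum_equiv (Equiv.mulRight (⟨r, hr⟩ : R)) _ _ fun x => ?_
  rw [← sigma_mul]; rfl

theorem avg_conj [Fintype R] {g : S} (hg : g ∈ Subgroup.normalizer (R : Set S)) (v : E) :
    avg ρ R (ρ g v) = ρ g (avg ρ R v) := by
  rw [avg_apply, avg_apply, map_smul, map_sum]
  congr 1
  let f : R ≃ R :=
    { toFun := fun x => ⟨g⁻¹ * x * g, by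
        have := (Subgroup.mem_normalizer_iff.1 ((Subgroup.normalizer (R : Set S)).inv_mem hg) x).1 x.2
        simpa using this⟩
      invFun := fun x => ⟨g * x * g⁻¹, (Subgroup.mem_normalizer_iff.1 hg x).1 x.2⟩
      left_inv := fun x => Subtype.ext (by show g * (g⁻¹ * x * g) * g⁻¹ = x; group)
      right_inv := fun x => Subtype.ext (by show g⁻¹ * (g * x * g⁻¹) * g = x; group) }
  refine Fintype.sum_equiv f _ _ fun x => ?_
  rw [← sigma_mul, ← sigma_mul]
  exact congrArg (fun t => ρ t v) (show (x : S) * g = g * (g⁻¹ * x * g) by group)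

/-- The decomposition. -/
theorem module_split [Finite S] [Finite E] (hfaith : Function.Injective ρ) [Group.IsSolvable S]
    {b w : S} (hcube : b ^ 3 = 1) (hnorm : Subgroup.zpowers b ≤ Subgroup.normalizer (R : Set S))
    (hcop : ¬ 3 ∣ Nat.card R) (hcomm : ⁅R, Subgroup.zpowers b⁆ = R)
    (hdim : Module.finrank F₃ (LinearMap.range (dd ρ b)) ≤ 2) (hcubic : ∃ v, dd ρ b (dd ρ b v) ≠ 0)
    (hw : Four b w) (hwR : w ∈ R) :
    ∃ F₀ F₁ : Submodule F₃ E, F₀ ⊓ F₁ = ⊥ ∧ F₀ ⊔ F₁ = ⊤ ∧
      (∀ r ∈ R, ∀ v ∈ F₁, ρ r v = v) ∧ (∀ r ∈ R ⊔ Subgroup.zpowers b, ∀ v ∈ F₀, ρ r v ∈ F₀) ∧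
      (∀ r ∈ R ⊔ Subgroup.zpowers b, (∀ v ∈ F₀, ρ r v = v) → r = 1) ∧
      (∀ N : Submodule F₃ E, N ≤ F₀ →
        (∀ r ∈ R ⊔ Subgroup.zpowers b, ∀ v ∈ N, ρ r v ∈ N) → N = ⊥ ∨ N = F₀) ∧
      ∃ σ : Representation F₃ ↥(R ⊔ Subgroup.zpowers b) F₀,
        Setting σ (R.subgroupOf (R ⊔ Subgroup.zpowers b))
          ⟨b, Subgroup.mem_sup_right (Subgroup.mem_zpowers b)⟩ := by
  classical
  have := Fintype.ofFinite R
  set H := R ⊔ Subgroup.zpowers b with hH
  have hbH : b ∈ H := Subgroup.mem_sup_right (Subgroup.mem_zpowers b)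
  have hRH : R ≤ H := le_sup_left
  set F₁ := fixSpace ρ R with hF₁
  set F₀ := LinearMap.ker (avg ρ R) with hF₀
  have hm0 : ∀ v, v ∈ F₀ ↔ avg ρ R v = 0 := fun v => LinearMap.mem_ker
  have hHN : H ≤ Subgroup.normalizer (R : Set S) := sup_le Subgroup.le_normalizer hnorm
  have hinv : ∀ r ∈ H, ∀ v ∈ F₀, ρ r v ∈ F₀ := fun r hr v hv =>
    (hm0 _).2 (by rw [avg_conj (hHN hr), (hm0 v).1 hv, map_zero])
  have hdec : ∀ v, v - avg ρ R v ∈ F₀ := fun v =>
    (hm0 _).2 (by rw [map_sub, avg_eq_self hcop (avg_fixed v), sub_self])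
  have hinf : F₀ ⊓ F₁ = ⊥ := by
    rw [Submodule.eq_bot_iff]
    intro v hv
    rw [← avg_eq_self hcop hv.2, (hm0 v).1 hv.1]
  have hsup : F₀ ⊔ F₁ = ⊤ := by
    rw [eq_top_iff]
    intro v _
    rw [← sub_add_cancel v (avg ρ R v)]
    exact Submodule.add_mem_sup (hdec v) (avg_fixed v)
  obtain ⟨e, L⟩ := exists_lines_of hfaith hcube hdim hw
  obtain ⟨e2w, e2u, e3w, e3u⟩ := L.eigen_of hw
  set u := b * w * b⁻¹ with hu
  have huR : u ∈ R := (Subgroup.mem_normalizer_iff.1 (hnorm (Subgroup.mem_zpowers b)) w).1 hwR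
  have hb3 : ∀ x, ρ b (ρ b (ρ b x)) = x := fun x => by
    rw [← sigma_mul, ← sigma_mul, show b * b * b = b ^ 3 by simp [pow_succ], hcube, map_one]; rfl
  -- where `b` acts trivially so does `R`
  have htriv : ∀ N M : Submodule F₃ E, (∀ r ∈ H, ∀ v ∈ M, ρ r v ∈ M) →
      (∀ r ∈ H, ∀ v ∈ N, ρ r v ∈ N) → (∀ v ∈ M, ρ b v - v ∈ N) → ∀ r ∈ R, ∀ v ∈ M, ρ r v - v ∈ N := by
    intro N M hMi hNi hMb
    let K : Subgroup S :=
      { carrier := {h | h ∈ H ∧ ∀ v ∈ M, ρ h v - v ∈ N}
        one_mem' := ⟨H.one_mem, fun v _ => by rw [map_one]; simp⟩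
        mul_mem' := by
          rintro x y ⟨hx, ex⟩ ⟨hy, ey⟩
          refine ⟨H.mul_mem hx hy, fun v hv => ?_⟩
          rw [sigma_mul, show ρ x (ρ y v) - v = (ρ x (ρ y v) - ρ y v) + (ρ y v - v) by abel]
          exact N.add_mem (ex _ (hMi y hy v hv)) (ey v hv)
        inv_mem' := by
          rintro x ⟨hx, ex⟩
          refine ⟨H.inv_mem hx, fun v hv => ?_⟩
          have h1 := N.neg_mem (hNi x⁻¹ (H.inv_mem hx) _ (ex v hv))
          rw [map_sub, sigma_inv_self, neg_sub] at h1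
          exact h1 }
    have hconj : ∀ x ∈ H, ∀ k ∈ K, x * k * x⁻¹ ∈ K := by
      intro x hx k hk
      refine ⟨H.mul_mem (H.mul_mem hx hk.1) (H.inv_mem hx), fun v hv => ?_⟩
      have h1 := hNi x hx _ (hk.2 _ (hMi x⁻¹ (H.inv_mem hx) v hv))
      rw [map_sub, sigma_self_inv] at h1
      rwa [sigma_mul, sigma_mul]
    have hbK : Subgroup.zpowers b ≤ K := Subgroup.zpowers_le.2 ⟨hbH, hMb⟩
    have hRK : R ≤ K := by
      rw [← hcomm, Subgroup.commutator_le]
      intro r hr c hc
      rw [commutatorElement_def]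
      exact K.mul_mem (hconj r (hRH hr) c (hbK hc)) (K.inv_mem (hbK hc))
    exact fun r hr v hv => (hRK hr).2 v hv
  have he0 : e ∈ F₀ := (hm0 e).2 (eq_zero_of_eq_neg (by
    conv_lhs => rw [← avg_absorb huR e]
    rw [L.w2_e, map_neg]))
  have hirr : ∀ N : Submodule F₃ E, N ≤ F₀ → (∀ r ∈ H, ∀ v ∈ N, ρ r v ∈ N) → N = ⊥ ∨ N = F₀ := by
    intro N hN hNi
    by_cases heN : e ∈ N
    · right
      refine le_antisymm hN fun v hv => ?_
      have hbe : ρ b e ∈ N := hNi b hbH e heN
      have hbbe : ρ b (ρ b e) ∈ N := hNi b hbH _ hbe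
      have hMb : ∀ v ∈ F₀, ρ b v - v ∈ N := by
        intro v _
        obtain ⟨c₁, c₂, c₃, v₀, hv1, hv2, hsp⟩ := L.split v
        rw [hsp, map_add, map_add, map_add, map_smul, map_smul, map_smul, hb3, L.fixb v₀ hv1 hv2]
        rw [show c₁ • ρ b e + c₂ • ρ b (ρ b e) + c₃ • e + v₀ - (c₁ • e + c₂ • ρ b e + c₃ • ρ b (ρ b e) + v₀) =
          (c₁ • ρ b e + c₂ • ρ b (ρ b e) + c₃ • e) - (c₁ • e + c₂ • ρ b e + c₃ • ρ b (ρ b e)) by abel]
        exact N.sub_mem (N.add_mem (N.add_mem (N.smul_mem _ hbe) (N.smul_mem _ hbbe)) (N.smul_mem _ heN))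
          (N.add_mem (N.add_mem (N.smul_mem _ heN) (N.smul_mem _ hbe)) (N.smul_mem _ hbbe))
      have h := htriv N F₀ hinv hNi hMb
      have hsum : (∑ r : R, (ρ (r : S) v - v)) ∈ N := N.sum_mem fun r _ => h r r.2 v hv
      have h2 := N.smul_mem ((Nat.card R : F₃)⁻¹) hsum
      rw [Finset.sum_sub_distrib, smul_sub, ← avg_apply, (hm0 v).1 hv, Finset.sum_const, Finset.card_univ,
        ← Nat.card_eq_fintype_card, ← Nat.cast_smul_eq_nsmul F₃, smul_smul,
        inv_mul_cancel₀ (fun h => hcop ((ZMod.natCast_eq_zero_iff _ _).1 h)), one_smul, zero_sub] at h2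
      simpa using N.neg_mem h2
    · left
      have hwH := hRH hwR
      have huH := hRH huR
      have hN0 : ∀ v ∈ N, ρ b v = v := by
        intro v hv
        obtain ⟨c₁, c₂, c₃, v₀, hv1, hv2, hsp⟩ := L.split v
        have Lu : ρ u e = -e := L.w2_e
        have hv2u : ρ u v₀ = v₀ := hv2
        have hwv : ρ w v = c₁ • e - c₂ • ρ b e - c₃ • ρ b (ρ b e) + v₀ := by
          rw [hsp]; simp only [map_add, map_smul, L.w_e, e2w, e3w, hv1, smul_neg]; abel
        have huv : ρ u v = -(c₁ • e) + c₂ • ρ b e - c₃ • ρ b (ρ b e) + v₀ := by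
          rw [hsp]; simp only [map_add, map_smul, Lu, e2u, e3u, hv2u, smul_neg]; abel
        have hwuv : ρ u (ρ w v) = -(c₁ • e) - c₂ • ρ b e + c₃ • ρ b (ρ b e) + v₀ := by
          rw [hwv]; simp only [map_add, map_sub, map_smul, Lu, e2u, e3u, hv2u, smul_neg]; abel
        have m1 := hNi w hwH v hv
        have m2 := hNi u huH v hv
        have m3 := hNi u huH _ m1
        have four : ∀ x : E, x + x + (x + x) = x := fun x => by
          have := three_smul_zero x
          calc x + x + (x + x) = (x + x + x) + x := by abel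
            _ = x := by rw [this, zero_add]
        have k1 : c₁ • e ∈ N := by
          rw [← four (c₁ • e), show c₁ • e + c₁ • e + (c₁ • e + c₁ • e) = v + ρ w v - ρ u v - ρ u (ρ w v) by
            rw [hwuv, hwv, huv]; conv_rhs => rw [hsp]
            abel]
          exact N.sub_mem (N.sub_mem (N.add_mem hv m1) m2) m3
        have k2 : c₂ • ρ b e ∈ N := by
          rw [← four (c₂ • ρ b e), show c₂ • ρ b e + c₂ • ρ b e + (c₂ • ρ b e + c₂ • ρ b e) =
              v - ρ w v + ρ u v - ρ u (ρ w v) by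
            rw [hwuv, hwv, huv]; conv_rhs => rw [hsp]
            abel]
          exact N.sub_mem (N.add_mem (N.sub_mem hv m1) m2) m3
        have k3 : c₃ • ρ b (ρ b e) ∈ N := by
          rw [← four (c₃ • ρ b (ρ b e)), show c₃ • ρ b (ρ b e) + c₃ • ρ b (ρ b e) +
              (c₃ • ρ b (ρ b e) + c₃ • ρ b (ρ b e)) = v - ρ w v - ρ u v + ρ u (ρ w v) by
            rw [hwuv, hwv, huv]; conv_rhs => rw [hsp]
            abel]
          exact N.add_mem (N.sub_mem (N.sub_mem hv m1) m2) m3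
        have z1 : c₁ = 0 := by
          by_contra hc
          exact heN (by simpa [smul_smul, inv_mul_cancel₀ hc] using N.smul_mem c₁⁻¹ k1)
        have z2 : c₂ = 0 := by
          by_contra hc
          have h1 : ρ b e ∈ N := by simpa [smul_smul, inv_mul_cancel₀ hc] using N.smul_mem c₂⁻¹ k2
          exact heN (by simpa [hb3] using hNi b hbH _ (hNi b hbH _ h1))
        have z3 : c₃ = 0 := by
          by_contra hc
          have h1 : ρ b (ρ b e) ∈ N := by simpa [smul_smul, inv_mul_cancel₀ hc] using N.smul_mem c₃⁻¹ k3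
          exact heN (by simpa [hb3] using hNi b hbH _ h1)
        rw [z1, z2, z3, zero_smul, zero_smul, zero_smul, zero_add, zero_add, zero_add] at hsp
        rw [hsp]; exact L.fixb v₀ hv1 hv2
      have h := htriv ⊥ N hNi (fun r _ v hv => by
        rw [(Submodule.mem_bot F₃).1 hv, map_zero]; exact Submodule.zero_mem _)
        fun v hv => (Submodule.mem_bot F₃).2 (sub_eq_zero.2 (hN0 v hv))
      rw [Submodule.eq_bot_iff]
      intro v hv
      have : v ∈ F₀ ⊓ F₁ := ⟨hN hv, fun r hr => sub_eq_zero.1 ((Submodule.mem_bot F₃).1 (h r hr v hv))⟩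
      rwa [hinf, Submodule.mem_bot] at this
  have hR0 : ∀ r ∈ R, (∀ v ∈ F₀, ρ r v = v) → r = 1 := fun r hr h => by
    refine hfaith (LinearMap.ext fun v => ?_)
    rw [map_one]
    show ρ r v = v
    rw [← sub_add_cancel v (avg ρ R v), map_add, h _ (hdec v), avg_fixed v r hr]
  have hfa : ∀ h ∈ H, (∀ v ∈ F₀, ρ h v = v) → h = 1 := by
    intro h hh hfix
    have hcent : ∀ y ∈ R, h * y = y * h := by
      intro y hy
      have hc : ⁅h, y⁆ = 1 := hR0 _ (by
        rw [commutatorElement_def]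
        exact R.mul_mem ((Subgroup.mem_normalizer_iff.1 (hHN hh) y).1 hy) (R.inv_mem hy)) fun v hv => by
        have hfix' : ∀ x ∈ F₀, ρ h⁻¹ x = x := fun x hx => by
          conv_lhs => rw [← hfix x hx]
          exact sigma_inv_self h x
        have h1 := hinv y⁻¹ (H.inv_mem (hRH hy)) v hv
        rw [commutatorElement_def, sigma_mul, sigma_mul, sigma_mul, hfix' _ h1, sigma_self_inv, hfix v hv]
      exact commutatorElement_eq_one_iff_mul_comm.1 hc
    have hh' : h ∈ ((Subgroup.zpowers b ⊔ R : Subgroup S) : Set S) := by rw [sup_comm]; exact hh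
    rw [Subgroup.coe_mul_of_left_le_normalizer_right _ _ hnorm] at hh'
    obtain ⟨c, hc, r, hr, rfl⟩ := hh'
    simp only at hh hfix hcent
    by_cases hc1 : c = 1
    · subst hc1
      exact hR0 _ (by simpa using hr) hfix
    exfalso
    have hcr : c * r = r * c := by
      have h1 := hcent r hr
      calc c * r = c * r * r * r⁻¹ := by group
        _ = r * c := by rw [h1]; group
    have hc3 : c ^ 3 = 1 := by
      obtain ⟨j, rfl⟩ := hc
      rw [← zpow_natCast, ← zpow_mul, mul_comm, zpow_mul, zpow_natCast, hcube, one_zpow]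
    have h3 : (c * r) ^ 3 = r ^ 3 := by rw [(show Commute c r from hcr).mul_pow, hc3, one_mul]
    have hr3 : r ^ 3 = 1 := hR0 _ (R.pow_mem hr 3) fun v hv => by
      rw [← h3]
      generalize c * r = g at hfix ⊢
      simp only [pow_succ, pow_zero, one_mul, sigma_mul, hfix v hv]
    have hr1 : r = 1 := by
      have h1 : orderOf (⟨r, hr⟩ : R) ∣ 3 := orderOf_dvd_of_pow_eq_one (Subtype.ext hr3)
      rcases (Nat.dvd_prime Nat.prime_three).1 h1 with h | h
      · exact congrArg Subtype.val (orderOf_eq_one_iff.1 h)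
      · exact absurd (h ▸ orderOf_dvd_natCard _) hcop
    subst hr1
    simp only [mul_one] at hcent
    have hzc : Subgroup.zpowers c = Subgroup.zpowers b := by
      refine Subgroup.eq_of_le_of_card_ge (Subgroup.zpowers_le.2 hc) ?_
      rw [Nat.card_zpowers, Nat.card_zpowers, orderOf_eq_prime hc3 hc1]
      exact Nat.le_of_dvd (by norm_num) (orderOf_dvd_of_pow_eq_one hcube)
    have hbc : b ∈ Subgroup.centralizer (R : Set S) := by
      have : Subgroup.zpowers c ≤ Subgroup.centralizer (R : Set S) :=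
        Subgroup.zpowers_le.2 (Subgroup.mem_centralizer_iff.2 fun y hy => (hcent y hy).symm)
      exact this (hzc ▸ Subgroup.mem_zpowers b)
    apply hw.ne
    rw [← Subgroup.mem_centralizer_iff.1 hbc w hwR, mul_inv_cancel_right]
  refine ⟨F₀, F₁, hinf, hsup, fun r hr v hv => hv r hr, hinv, hfa, hirr, ?_⟩
  let σ : Representation F₃ H F₀ :=
    { toFun := fun h => (ρ (h : S)).restrict (hinv h h.2)
      map_one' := LinearMap.ext fun v => Subtype.ext (by
        show ρ ((1 : H) : S) (v : E) = v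
        rw [Subgroup.coe_one, map_one]; rfl)
      map_mul' := fun x y => LinearMap.ext fun v => Subtype.ext (sigma_mul (x : S) y (v : E)) }
  refine ⟨σ, ?_⟩
  have hval : ∀ (h : H) (v : F₀), ((σ h v : F₀) : E) = ρ (h : S) v := fun h v => rfl
  set R' := R.subgroupOf H with hR'
  set b' : H := ⟨b, hbH⟩ with hb'
  have hmapR : R'.map H.subtype = R := by rw [hR', Subgroup.subgroupOf_map_subtype, inf_of_le_left hRH]
  have hddv : ∀ v : F₀, ((dd σ b' v : F₀) : E) = dd ρ b v := fun v => rfl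
  refine ⟨?_, ?_, Subgroup.normal_subgroupOf_of_le_normalizer hHN, inferInstance, ?_, Subtype.ext hcube, ?_, ?_, ?_, ?_⟩
  · refine (injective_iff_map_eq_one σ).2 fun h hh => Subtype.ext (hfa h h.2 fun v hv => ?_)
    rw [← hval h ⟨v, hv⟩, hh]; rfl
  · intro U hU
    rcases hirr (U.map F₀.subtype) (Submodule.map_subtype_le _ _) (fun r hr v hv => by
      obtain ⟨v', hv', rfl⟩ := hv
      exact ⟨σ ⟨r, hr⟩ v', hU _ v' hv', rfl⟩) with h | h
    · exact Or.inl (Submodule.map_injective_of_injective F₀.subtype_injective (by rw [h, Submodule.map_bot]))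
    · exact Or.inr (Submodule.map_injective_of_injective F₀.subtype_injective (by rw [h, Submodule.map_subtype_top]))
  · rw [hR', Nat.card_congr (Subgroup.subgroupOfEquivOfLe hRH).toEquiv]; exact hcop
  · apply Subgroup.map_injective H.subtype_injective
    rw [Subgroup.map_sup, hmapR, MonoidHom.map_zpowers, ← MonoidHom.range_eq_map, Subgroup.range_subtype]
    rfl
  · apply Subgroup.map_injective H.subtype_injective
    rw [Subgroup.map_commutator, hmapR, MonoidHom.map_zpowers]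
    exact hcomm
  · refine le_trans ?_ hdim
    let ι : LinearMap.range (dd σ b') →ₗ[F₃] LinearMap.range (dd ρ b) :=
      LinearMap.codRestrict _ (F₀.subtype ∘ₗ (LinearMap.range (dd σ b')).subtype) fun x => by
        obtain ⟨y, hy⟩ := x.2
        exact ⟨y, by rw [← hddv, hy]; rfl⟩
    refine LinearMap.finrank_le_finrank_of_injective (f := ι) fun x y h => ?_
    have h' : ((x : F₀) : E) = ((y : F₀) : E) :=
      congrArg (fun z : LinearMap.range (dd ρ b) => (z : E)) h
    exact Subtype.ext (Subtype.ext h')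
  · obtain ⟨v, hv⟩ := hcubic
    refine ⟨⟨v - avg ρ R v, hdec v⟩, fun h => hv ?_⟩
    have h1 : dd ρ b (avg ρ R v) = 0 := by
      rw [dd_apply, sub_eq_zero]
      exact L.fixb _ (avg_fixed v w hwR) (avg_fixed v u huR)
    have h2 := congrArg Subtype.val h
    rw [hddv, hddv] at h2
    simp only [map_sub, h1, sub_zero, Submodule.coe_zero] at h2
    exact h2

end Cfsg.Agent.JordanThree
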